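import Mathlib

/-! Box products of base changes. -/

set_option autoImplicit false

universe u

open TensorProduct

namespace KunnethDiagLib

/-- A box product of two base changes along a pushout of rings is a tensor product over the base. -/
theorem bijective_box {A R S O M N P₁ P₂ : Type u} [CommRing A] [CommRing R] [CommRing S] [CommRing O]
    [Algebra A R] [Algebra A S] [Algebra A O] [Algebra R O] [Algebra S O]
    [IsScalarTower A R O] [IsScalarTower A S O] [Algebra.IsPushout A R S O]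
    [AddCommGroup M] [Module R M] [Module A M] [IsScalarTower A R M]
    [AddCommGroup N] [Module S N] [Module A N] [IsScalarTower A S N]
    [AddCommGroup P₁] [Module O P₁] [Module R P₁] [Module A P₁] [IsScalarTower R O P₁] [IsScalarTower A O P₁]
    [AddCommGroup P₂] [Module O P₂] [Module S P₂] [Module A P₂] [IsScalarTower S O P₂] [IsScalarTower A O P₂]
    (ψ₁ : M →ₗ[R] P₁) (h₁ : IsBaseChange O ψ₁) (ψ₂ : N →ₗ[S] P₂) (h₂ : IsBaseChange O ψ₂)
    (μ : M ⊗[A] N →ₗ[A] P₁ ⊗[O] P₂) (hμ : ∀ m n, μ (m ⊗ₜ n) = ψ₁ m ⊗ₜ[O] ψ₂ n) :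
    Function.Bijective μ := by
  letI : Module R P₂ := Module.compHom P₂ (algebraMap R O)
  haveI : IsScalarTower R O P₂ := IsScalarTower.of_algebraMap_smul fun _ _ => rfl
  haveI : IsScalarTower A R P₂ := IsScalarTower.to₁₂₄ A R O P₂
  haveI : IsScalarTower A S P₂ := IsScalarTower.to₁₂₄ A S O P₂
  let ψ' : N →ₗ[A] P₂ := ψ₂.restrictScalars A
  have hψ' : IsBaseChange R ψ' := by
    refine IsBaseChange.of_equiv ((Algebra.IsPushout.cancelBaseChange A R S O N).symm.trans
      (h₂.equiv.restrictScalars R)) fun n => ?_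
    rw [LinearEquiv.trans_apply, Algebra.IsPushout.cancelBaseChange_symm_tmul]
    show h₂.equiv (algebraMap R O 1 ⊗ₜ n) = ψ₂ n
    rw [map_one, h₂.equiv_tmul, one_smul]
  let e1 : M ⊗[R] P₂ ≃ₗ[R] M ⊗[A] N := hψ'.tensorEquiv M
  let e2 : P₂ ⊗[O] P₁ ≃ₗ[O] P₂ ⊗[R] M := h₁.tensorEquiv P₂
  let e : M ⊗[A] N ≃+ P₁ ⊗[O] P₂ :=
    e1.symm.toAddEquiv.trans (((TensorProduct.comm R M P₂).toAddEquiv.trans e2.symm.toAddEquiv).trans
      (TensorProduct.comm O P₂ P₁).toAddEquiv)
  suffices ⇑μ = ⇑e by rw [this]; exact e.bijective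
  funext t
  induction t using TensorProduct.induction_on with
  | zero => simp
  | add x y hx hy => rw [map_add, map_add, hx, hy]
  | tmul m n =>
    rw [hμ]
    have h1 : e1.symm (m ⊗ₜ n) = m ⊗ₜ[R] ψ₂ n := by
      rw [LinearEquiv.symm_apply_eq]
      show _ = AlgebraTensorModule.cancelBaseChange A R R M N (LinearEquiv.lTensor M hψ'.equiv.symm (m ⊗ₜ ψ' n))
      rw [LinearEquiv.lTensor_tmul, hψ'.equiv_symm_apply, AlgebraTensorModule.cancelBaseChange_tmul, one_smul]
    have h2 : e2.symm (ψ₂ n ⊗ₜ m) = ψ₂ n ⊗ₜ[O] ψ₁ m := by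
      rw [LinearEquiv.symm_apply_eq]
      show _ = AlgebraTensorModule.cancelBaseChange R O O P₂ M (LinearEquiv.lTensor P₂ h₁.equiv.symm (ψ₂ n ⊗ₜ ψ₁ m))
      rw [LinearEquiv.lTensor_tmul, h₁.equiv_symm_apply, AlgebraTensorModule.cancelBaseChange_tmul, one_smul]
    show _ = TensorProduct.comm O P₂ P₁ (e2.symm (TensorProduct.comm R M P₂ (e1.symm (m ⊗ₜ n))))
    rw [h1, TensorProduct.comm_tmul, h2, TensorProduct.comm_tmul]

end KunnethDiagLib
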