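import Groth.Agent.KunnethDiagLib.Diag
import Groth.Agent.CohBCLib.Univ
import Groth.Agent.FlatHomBC.Alg

/-! The system of a module on the intersections of a cover. -/

set_option autoImplicit false
set_option maxHeartbeats 1000000

universe u

open CategoryTheory CategoryTheory.Limits AlgebraicGeometry TopologicalSpace Opposite
open RpushLib (secFun)
open CohBCLib (secA rsA CochA capX cechA ddA)

namespace KunnethDiagLib

variable {A : Type u} [CommRing A]

section Transfer

variable {τ : Type u} [DecidableEq τ] {R : Sys A τ} {C : CochainComplex (ModuleCat.{u} A) ℕ}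
  (e : ∀ n, Coch R n ≃ₗ[A] (C.X n : Type u)) (he : ∀ n x, (C.d n (n + 1)).hom (e n x) = e (n + 1) (dd R n x))

include he in
theorem transfer_mem (n : ℕ) (x : Zc R n) : e n x.1 ∈ LinearMap.ker (C.d n (n + 1)).hom :=
  LinearMap.mem_ker.mpr ((he n x.1).trans ((congrArg _ x.2).trans (map_zero _)))

include he in
theorem bd_iff (n : ℕ) (x : Coch R n) :
    x ∈ Bd R n ↔ e n x ∈ LinearMap.range (C.d ((ComplexShape.up ℕ).prev n) n).hom := by
  cases n with
  | zero =>
    rw [C.shape _ _ (by simp), ModuleCat.hom_zero, LinearMap.range_zero, Submodule.mem_bot,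
      LinearEquiv.map_eq_zero_iff]
    exact Submodule.mem_bot A
  | succ n =>
    have hr : ∀ j, j = n → LinearMap.range (C.d j (n + 1)).hom = LinearMap.range (C.d n (n + 1)).hom := by
      rintro j rfl; rfl
    rw [hr _ (CochainComplex.prev_nat_succ n)]
    constructor
    · rintro ⟨y, rfl⟩
      exact ⟨e n y, he n y⟩
    · rintro ⟨y, hy⟩
      obtain ⟨y, rfl⟩ := (e n).surjective y
      exact ⟨y, (e (n + 1)).injective ((he n y).symm.trans hy)⟩

/-- From cohomology of a system to homology of an isomorphic complex. -/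
noncomputable def hcTo (n : ℕ) : Hc R n →ₗ[A] (C.homology n : Type u) :=
  Submodule.liftQ _ (FlatCxLib.hcls C n (n + 1) (by simp) ∘ₗ
    LinearMap.codRestrict _ ((e n).toLinearMap ∘ₗ (Zc R n).subtype) (transfer_mem e he n)) (fun x hx => by
    exact (FlatCxLib.hcls_eq_zero_iff C n (n + 1) (by simp) _ rfl _).mpr ((bd_iff e he n x.1).mp hx))

theorem hcTo_bijective (n : ℕ) : Function.Bijective (hcTo e he n) := by
  constructor
  · rw [injective_iff_map_eq_zero]
    intro h hh
    obtain ⟨x, rfl⟩ := cls_surjective R n h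
    exact (Submodule.Quotient.mk_eq_zero _).mpr ((bd_iff e he n x.1).mpr
      ((FlatCxLib.hcls_eq_zero_iff C n (n + 1) (by simp) _ rfl _).mp hh))
  · intro h
    obtain ⟨⟨y, hy⟩, rfl⟩ := FlatCxLib.hcls_surjective C n (n + 1) (by simp) h
    obtain ⟨x, rfl⟩ := (e n).surjective y
    have hx : x ∈ Zc R n := LinearMap.mem_ker.mpr
      ((e (n + 1)).injective (((he n x).symm.trans hy).trans (map_zero _).symm))
    exact ⟨cls R n ⟨x, hx⟩, rfl⟩

/-- Cohomology of a system computes homology. -/
noncomputable def hcEquiv (n : ℕ) : Hc R n ≃ₗ[A] (C.homology n : Type u) :=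
  LinearEquiv.ofBijective (hcTo e he n) (hcTo_bijective e he n)

include he in
theorem flat_coker (n : ℕ) (h : Module.Flat A ((C.X n : Type u) ⧸ LinearMap.range (FlatHomBC.dIn C n))) :
    Module.Flat A (Coch R n ⧸ Bd R n) := by
  haveI := h
  refine Module.Flat.of_linearEquiv (Submodule.Quotient.equiv (Bd R n) (LinearMap.range (FlatHomBC.dIn C n)) (e n) ?_)
  ext y
  obtain ⟨x, rfl⟩ := (e n).surjective y
  constructor
  · rintro ⟨z, hz, hzx⟩
    obtain rfl := (e n).injective hzx
    exact (bd_iff e he n _).mp hz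
  · exact fun hy => ⟨x, (bd_iff e he n x).mpr hy, rfl⟩

end Transfer

variable {X : Scheme.{u}} (f : X ⟶ Spec (CommRingCat.of A)) {ι : Type u} (U : ι → X.Opens) (G : X.Modules)

theorem rsA_self (V : X.Opens) (s : (secFun V (secA f V)).obj G) : rsA f G (le_refl V) s = s :=
  congr($(G.presheaf.map_id (op V)) (show Γ(G, V) from s))

theorem rsA_rsA {V W Z : X.Opens} (h : W ≤ V) (h' : Z ≤ W) (h'' : Z ≤ V) (s : (secFun V (secA f V)).obj G) :
    rsA f G h' (rsA f G h s) = rsA f G h'' s :=
  congr($(G.presheaf.map_comp (homOfLE h).op (homOfLE h').op) (show Γ(G, V) from s)).symm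

/-- Restriction along an equality of opens. -/
noncomputable def rsEquiv {V W : X.Opens} (h : V = W) :
    (secFun V (secA f V)).obj G ≃ₗ[A] (secFun W (secA f W)).obj G :=
  { rsA f G h.ge with
    invFun := rsA f G h.le
    left_inv := fun s => (rsA_rsA f G h.ge h.le le_rfl s).trans (rsA_self f G V s)
    right_inv := fun s => (rsA_rsA f G h.le h.ge le_rfl s).trans (rsA_self f G W s) }

variable [DecidableEq ι]

/-- The system of a module on intersections. -/
noncomputable def covSys : Sys A ι where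
  obj S := ModuleCat.of A ((secFun (S.inf U) (secA f (S.inf U))).obj G)
  map g := ModuleCat.ofHom (rsA f G (Finset.inf_mono g.le))
  map_id S := ModuleCat.hom_ext (LinearMap.ext fun s => rsA_self f G _ s)
  map_comp g g' := ModuleCat.hom_ext (LinearMap.ext fun s => (rsA_rsA f G _ _ _ s).symm)

theorem inf_img {n : ℕ} (J : Fin n → ι) : (img J).inf U = capX U J := by
  rw [img, Finset.inf_image, Finset.inf_univ_eq_iInf]
  rfl

/-- The cochains of the system are the Čech cochains. -/
noncomputable def covEquiv (n : ℕ) : Coch (covSys f U G) n ≃ₗ[A] (((cechA f U).obj G).X n : Type u) :=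
  LinearEquiv.piCongrRight fun J => rsEquiv f G (inf_img U J)

theorem covEquiv_d (n : ℕ) (x : Coch (covSys f U G) n) :
    (((cechA f U).obj G).d n (n + 1)).hom (covEquiv f U G n x) = covEquiv f U G (n + 1) (dd (covSys f U G) n x) := by
  refine (congrArg (fun d => ModuleCat.Hom.hom d (covEquiv f U G n x)) (CohBCLib.cechA_d f U G n)).trans (funext fun J => ?_)
  show ddA f U G n (covEquiv f U G n x) J = rsA f G (inf_img U J).ge (dd (covSys f U G) n x J)
  simp only [ddA, LinearMap.pi_apply, LinearMap.sum_apply, LinearMap.smul_apply, LinearMap.comp_apply,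
    LinearMap.proj_apply]
  rw [dd_apply]
  refine Eq.trans ?_ (map_sum (rsA f G (inf_img U J).ge) _ _).symm
  refine Finset.sum_congr rfl fun k _ => ?_
  refine Eq.trans ?_ (map_zsmul (rsA f G (inf_img U J).ge) _ _).symm
  refine congrArg _ ?_
  exact (rsA_rsA f G _ _ ((CechLib.cap_comp_le (X := X.toTopCat) U J k.succAbove).trans
    (inf_img U (J ∘ k.succAbove)).ge) (x (J ∘ k.succAbove))).trans
    (rsA_rsA f G _ _ _ (x (J ∘ k.succAbove))).symm

/-- Cohomology from the system. -/
noncomputable def covH (hcov : (⨆ i, U i) = ⊤)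
    (haff : ∀ (n : ℕ) (J : Fin (n + 1) → ι), IsAffineOpen (capX U J)) [Coh.IsQCoh G] (n : ℕ) :
    Hc (covSys f U G) n ≃ₗ[A] ((CohBCLib.HA f n).obj G : Type u) :=
  (hcEquiv (covEquiv f U G) (covEquiv_d f U G) n).trans (CohBCLib.hCmp f U haff hcov n G).toLinearEquiv

omit [DecidableEq ι] in
theorem flat_inf (haff : ∀ (n : ℕ) (J : Fin (n + 1) → ι), IsAffineOpen (capX U J)) [Finite ι]
    [Coh.IsQCoh G] (hfl : FlatMod.IsFlatOver f G) (n : ℕ) (J : Fin (n + 1) → ι) :
    Module.Flat A ((secFun (capX U J) (secA f (capX U J))).obj G) := by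
  classical
  haveI := CohBCLib.flat_cochA f U G haff hfl n
  exact Module.Flat.of_retract
    (LinearMap.single A (fun J : Fin (n + 1) → ι => ((secFun (capX U J) (secA f (capX U J))).obj G : Type u)) J)
    (LinearMap.proj J) (LinearMap.ext fun x => Pi.single_eq_same _ _)

theorem flat_covSys (haff : ∀ (n : ℕ) (J : Fin (n + 1) → ι), IsAffineOpen (capX U J)) [Finite ι]
    [Coh.IsQCoh G] (hfl : FlatMod.IsFlatOver f G) (S : Finset ι) (hS : S.Nonempty) : Module.Flat A ((covSys f U G).obj S) := by
  classical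
  obtain ⟨m, hm⟩ := Nat.exists_eq_succ_of_ne_zero hS.card_pos.ne'
  let J : Fin (m + 1) → ι := fun j => (S.equivFin.symm (Fin.cast hm.symm j)).1
  have hJ : S.inf U = capX U J := by
    refine Eq.trans (congrArg (fun T : Finset ι => T.inf U) ?_) (inf_img U J)
    ext x
    refine ⟨fun hx => Finset.mem_image.mpr ⟨Fin.cast hm (S.equivFin ⟨x, hx⟩), Finset.mem_univ _, by simp [J]⟩,
      fun hx => ?_⟩
    obtain ⟨j, -, rfl⟩ := Finset.mem_image.mp hx
    exact (S.equivFin.symm _).2
  haveI := flat_inf f U G haff hfl m J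
  exact Module.Flat.of_linearEquiv (rsEquiv f G hJ)

theorem flat_coker_covSys (hcov : (⨆ i, U i) = ⊤)
    (haff : ∀ (n : ℕ) (J : Fin (n + 1) → ι), IsAffineOpen (capX U J))
    (hinf : ∀ t : Finset ι, t.Nonempty → IsAffineOpen (t.inf U)) [Fintype ι] [Coh.IsQCoh G]
    (hfl : FlatMod.IsFlatOver f G) (hH : ∀ n, Module.Flat A ((CohBCLib.HA f n).obj G)) (n : ℕ) :
    Module.Flat A (Coch (covSys f U G) n ⧸ Bd (covSys f U G) n) := by
  refine flat_coker (covEquiv f U G) (covEquiv_d f U G) n (FlatHomBC.flat_coker_in _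
    (CohBCLib.flat_cochA f U G haff hfl) (fun m => ?_) (Fintype.card ι) (fun M m hm => ?_) n)
  · haveI := hH m
    exact Module.Flat.of_linearEquiv (CohBCLib.hCmp f U haff hcov m G).toLinearEquiv
  · have := CohBCLib.isQCoh_tA f G M
    have h : Subsingleton (Coh.HH X ((CohBCLib.tA f G).obj M) m) := by
      refine (QCohLib.subsingleton_H_iff _ m).2 ?_
      have := QCohLib.subsingleton_HU_finsetSup ((CohBCLib.tA f G).obj M) Finset.univ U (fun t ht _ => hinf t ht) m
        (by rw [Finset.card_univ]; omega)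
      rwa [Finset.sup_univ_eq_iSup, hcov] at this
    have hz : IsZero ((CohBCLib.TH f G m).obj M) := @ModuleCat.isZero_of_subsingleton _ _ _ h
    exact hz.of_iso ((CohBCLib.haTAIso f U haff hcov G m).app M)

end KunnethDiagLib
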