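import Groth.Agent.KunnethDiagLib.Induct
import Groth.Agent.KunnethDiagLib.Cover
import Groth.Agent.KunnethDiagLib.Algebra
import Groth.Agent.CohBCLib.BC
import Groth.Agent.S2297

/-! Sections of a box product over products of affine opens; the Künneth formula. -/

set_option autoImplicit false
set_option maxHeartbeats 1000000

universe u

open CategoryTheory CategoryTheory.Limits AlgebraicGeometry TopologicalSpace Opposite
open scoped TensorProduct
open KFlatLib (pb puSecLE tens)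
open RpushLib (secFun)
open CohBCLib (secA rsA CochA capX cechA prodSec)

namespace KunnethDiagLib

variable {A : Type u} [CommRing A]

theorem secA_comp {X P : Scheme.{u}} (g : P ⟶ X) (f₁ : X ⟶ Spec (CommRingCat.of A))
    (f : P ⟶ Spec (CommRingCat.of A)) (hw : g ≫ f₁ = f) (a : X.Opens) (w : P.Opens) (h : w ≤ g ⁻¹ᵁ a) (r : A) :
    g.appLE a w h (secA f₁ a r) = secA f w r := by
  subst hw
  exact congr($(Scheme.Hom.appLE_comp_appLE g f₁ ⊤ a w le_top h) ((Scheme.ΓSpecIso (CommRingCat.of A)).inv r))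

/-- The box product of two modules. -/
noncomputable abbrev box {X₁ X₂ P : Scheme.{u}} (p₁ : P ⟶ X₁) (p₂ : P ⟶ X₂) (F₁ : X₁.Modules) (F₂ : X₂.Modules) :
    P.Modules :=
  tens (pb p₁ F₁) (pb p₂ F₂)

variable {X₁ X₂ P : Scheme.{u}} {f₁ : X₁ ⟶ Spec (CommRingCat.of A)} {f₂ : X₂ ⟶ Spec (CommRingCat.of A)}
  {f : P ⟶ Spec (CommRingCat.of A)} {p₁ : P ⟶ X₁} {p₂ : P ⟶ X₂} (hf₁ : p₁ ≫ f₁ = f) (hf₂ : p₂ ≫ f₂ = f)
  (F₁ : X₁.Modules) (F₂ : X₂.Modules)

/-- The box product of sections. -/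
noncomputable def boxSec (a : X₁.Opens) (b : X₂.Opens) (w : P.Opens) (ha : w ≤ p₁ ⁻¹ᵁ a) (hb : w ≤ p₂ ⁻¹ᵁ b) :
    ((secFun a (secA f₁ a)).obj F₁ : Type u) ⊗[A] ((secFun b (secA f₂ b)).obj F₂ : Type u) →ₗ[A]
      (secFun w (secA f w)).obj (box p₁ p₂ F₁ F₂) :=
  TensorProduct.lift (LinearMap.mk₂ A
    (fun (s : (secFun a (secA f₁ a)).obj F₁) (t : (secFun b (secA f₂ b)).obj F₂) =>
      (show (secFun w (secA f w)).obj (box p₁ p₂ F₁ F₂) from
        prodSec (pb p₁ F₁) (pb p₂ F₂) w (puSecLE p₁ F₁ ha (show Γ(F₁, a) from s))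
          (puSecLE p₂ F₂ hb (show Γ(F₂, b) from t))))
    (fun s s' t => (congrArg (fun z => prodSec _ _ w z _) (map_add _ _ _)).trans
      (CohBCLib.prodSec_add_left _ _ _ _ _ _))
    (fun r s t => by
      refine (congrArg (fun z => prodSec _ _ w z _)
        (KFlatLib.puSecLE_smul p₁ F₁ ha (secA f₁ a r) (show Γ(F₁, a) from s))).trans ?_
      rw [secA_comp p₁ f₁ f hf₁ a w ha r]
      exact CohBCLib.prodSec_smul_left _ _ _ _ _ _)
    (fun s t t' => (congrArg (fun z => prodSec _ _ w _ z) (map_add _ _ _)).trans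
      (CohBCLib.prodSec_add_right _ _ _ _ _ _))
    (fun r s t => by
      refine (congrArg (fun z => prodSec _ _ w _ z)
        (KFlatLib.puSecLE_smul p₂ F₂ hb (secA f₂ b r) (show Γ(F₂, b) from t))).trans ?_
      rw [secA_comp p₂ f₂ f hf₂ b w hb r]
      exact CohBCLib.prodSec_smul_right _ _ _ _ _ _))

theorem puSecLE_res {X Y : Scheme.{u}} (g : X ⟶ Y) (M : Y.Modules) {U V : Y.Opens} (hVU : V ≤ U) {W W' : X.Opens}
    (hWW : W' ≤ W) (h : W ≤ g ⁻¹ᵁ U) (h' : W' ≤ g ⁻¹ᵁ V) (m : Γ(M, U)) :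
    (pb g M).presheaf.map (homOfLE hWW).op (puSecLE g M h m) = puSecLE g M h' (M.presheaf.map (homOfLE hVU).op m) := by
  rw [KFlatLib.puSecLE_apply, KFlatLib.puSecLE_apply]
  have e : (pb g M).presheaf.map (homOfLE (g.preimage_mono hVU)).op (KFlatLib.puSec g m) =
      KFlatLib.puSec g (M.presheaf.map (homOfLE hVU).op m) :=
    congr($((((Scheme.Modules.pullbackPushforwardAdjunction g).unit.app M).mapPresheaf.naturality
      (homOfLE hVU).op)) m).symm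
  rw [← e, ← ConcreteCategory.comp_apply, ← Functor.map_comp, ← ConcreteCategory.comp_apply, ← Functor.map_comp]
  rfl

theorem boxSec_natural {a a' : X₁.Opens} {b b' : X₂.Opens} {w w' : P.Opens} (ha : w ≤ p₁ ⁻¹ᵁ a)
    (hb : w ≤ p₂ ⁻¹ᵁ b) (ha' : w' ≤ p₁ ⁻¹ᵁ a') (hb' : w' ≤ p₂ ⁻¹ᵁ b') (haa : a' ≤ a) (hbb : b' ≤ b) (hww : w' ≤ w)
    (x : ((secFun a (secA f₁ a)).obj F₁ : Type u) ⊗[A] ((secFun b (secA f₂ b)).obj F₂ : Type u)) :
    rsA f (box p₁ p₂ F₁ F₂) hww (boxSec hf₁ hf₂ F₁ F₂ a b w ha hb x) =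
      boxSec hf₁ hf₂ F₁ F₂ a' b' w' ha' hb' (TensorProduct.map (rsA f₁ F₁ haa) (rsA f₂ F₂ hbb) x) := by
  induction x using TensorProduct.induction_on with
  | zero => simp only [map_zero]
  | add y z hy hz => simp only [map_add, hy, hz]
  | tmul s t =>
    refine (CohBCLib.prodSec_map _ _ hww _ _).trans ?_
    exact congrArg₂ (prodSec _ _ w') (puSecLE_res p₁ F₁ haa hww ha ha' _) (puSecLE_res p₂ F₂ hbb hww hb hb' _)

theorem boxSec_bijective (H : IsPullback p₁ p₂ f₁ f₂) [Coh.IsQCoh F₁] [Coh.IsQCoh F₂] {a : X₁.Opens}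
    (haA : IsAffineOpen a) {b : X₂.Opens} (hbA : IsAffineOpen b) {w : P.Opens} (hw : w = p₁ ⁻¹ᵁ a ⊓ p₂ ⁻¹ᵁ b)
    (ha : w ≤ p₁ ⁻¹ᵁ a) (hb : w ≤ p₂ ⁻¹ᵁ b) : Function.Bijective (boxSec hf₁ hf₂ F₁ F₂ a b w ha hb) := by
  subst hw
  let w := p₁ ⁻¹ᵁ a ⊓ p₂ ⁻¹ᵁ b
  have hwA : IsAffineOpen w :=
    RpushLib.isAffineOpen_fibre H (isAffineOpen_top _) hbA le_top haA le_top
  have hpush : IsPushout (f₁.appLE ⊤ a le_top) (f₂.appLE ⊤ b le_top) (p₁.appLE a w inf_le_left)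
      (p₂.appLE b w inf_le_right) :=
    RpushLib.isPushout_sections H (isAffineOpen_top _) hbA le_top haA le_top
  have hpush' : IsPushout (CommRingCat.ofHom (secA f₁ a)) (CommRingCat.ofHom (secA f₂ b))
      (p₁.appLE a w inf_le_left) (p₂.appLE b w inf_le_right) :=
    hpush.of_iso (Scheme.ΓSpecIso (CommRingCat.of A)) (Iso.refl _) (Iso.refl _) (Iso.refl _)
      ((Category.comp_id _).trans (Iso.hom_inv_id_assoc (Scheme.ΓSpecIso (CommRingCat.of A)) _).symm)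
      ((Category.comp_id _).trans (Iso.hom_inv_id_assoc (Scheme.ΓSpecIso (CommRingCat.of A)) _).symm)
      ((Category.comp_id _).trans (Category.id_comp _).symm) ((Category.comp_id _).trans (Category.id_comp _).symm)
  letI algA : Algebra A Γ(X₁, a) := (secA f₁ a).toAlgebra
  letI : Algebra A Γ(X₂, b) := (secA f₂ b).toAlgebra
  letI : Algebra A Γ(P, w) := (secA f w).toAlgebra
  letI : Algebra Γ(X₁, a) Γ(P, w) := (p₁.appLE a w inf_le_left).hom.toAlgebra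
  letI : Algebra Γ(X₂, b) Γ(P, w) := (p₂.appLE b w inf_le_right).hom.toAlgebra
  haveI : IsScalarTower A Γ(X₁, a) Γ(P, w) :=
    IsScalarTower.of_algebraMap_eq fun r => (secA_comp p₁ f₁ f hf₁ a w inf_le_left r).symm
  haveI : IsScalarTower A Γ(X₂, b) Γ(P, w) :=
    IsScalarTower.of_algebraMap_eq fun r => (secA_comp p₂ f₂ f hf₂ b w inf_le_right r).symm
  haveI : Algebra.IsPushout A Γ(X₁, a) Γ(X₂, b) Γ(P, w) :=
    CommRingCat.isPushout_iff_isPushout.mp hpush'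
  letI : Module A Γ(F₁, a) := Module.compHom _ (secA f₁ a)
  haveI : IsScalarTower A Γ(X₁, a) Γ(F₁, a) := IsScalarTower.of_algebraMap_smul fun _ _ => rfl
  letI : Module A Γ(F₂, b) := Module.compHom _ (secA f₂ b)
  haveI : IsScalarTower A Γ(X₂, b) Γ(F₂, b) := IsScalarTower.of_algebraMap_smul fun _ _ => rfl
  let P₁ := pb p₁ F₁
  let P₂ := pb p₂ F₂
  haveI : Coh.IsQCoh P₁ := KFlatLib.isQCoh_pullback p₁ F₁
  haveI : Coh.IsQCoh P₂ := KFlatLib.isQCoh_pullback p₂ F₂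
  haveI : Coh.IsQCoh (tens P₁ P₂) := (Groth.Agent.S2297.result P₁ P₂).1
  letI : Module Γ(X₁, a) Γ(P₁, w) := Module.compHom _ (algebraMap Γ(X₁, a) Γ(P, w))
  haveI : IsScalarTower Γ(X₁, a) Γ(P, w) Γ(P₁, w) := IsScalarTower.of_algebraMap_smul fun _ _ => rfl
  letI : Module Γ(X₂, b) Γ(P₂, w) := Module.compHom _ (algebraMap Γ(X₂, b) Γ(P, w))
  haveI : IsScalarTower Γ(X₂, b) Γ(P, w) Γ(P₂, w) := IsScalarTower.of_algebraMap_smul fun _ _ => rfl
  letI : Module A Γ(P₁, w) := Module.compHom _ (algebraMap A Γ(P, w))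
  haveI : IsScalarTower A Γ(P, w) Γ(P₁, w) := IsScalarTower.of_algebraMap_smul fun _ _ => rfl
  letI : Module A Γ(P₂, w) := Module.compHom _ (algebraMap A Γ(P, w))
  haveI : IsScalarTower A Γ(P, w) Γ(P₂, w) := IsScalarTower.of_algebraMap_smul fun _ _ => rfl
  letI : Module A Γ(tens P₁ P₂, w) := Module.compHom _ (algebraMap A Γ(P, w))
  haveI : IsScalarTower A Γ(P, w) Γ(tens P₁ P₂, w) := IsScalarTower.of_algebraMap_smul fun _ _ => rfl
  let ψ₁ : Γ(F₁, a) →ₗ[Γ(X₁, a)] Γ(P₁, w) :=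
    { toFun := puSecLE p₁ F₁ (inf_le_left : w ≤ p₁ ⁻¹ᵁ a)
      map_add' := map_add _
      map_smul' := fun r m => KFlatLib.puSecLE_smul p₁ F₁ _ r m }
  let ψ₂ : Γ(F₂, b) →ₗ[Γ(X₂, b)] Γ(P₂, w) :=
    { toFun := puSecLE p₂ F₂ (inf_le_right : w ≤ p₂ ⁻¹ᵁ b)
      map_add' := map_add _
      map_smul' := fun r m => KFlatLib.puSecLE_smul p₂ F₂ _ r m }
  have h₁ : IsBaseChange Γ(P, w) ψ₁ :=
    KFlatLib.isBaseChange_puSec p₁ F₁ haA hwA inf_le_left (fun _ => rfl) ψ₁ fun _ => rfl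
  have h₂ : IsBaseChange Γ(P, w) ψ₂ :=
    KFlatLib.isBaseChange_puSec p₂ F₂ hbA hwA inf_le_right (fun _ => rfl) ψ₂ fun _ => rfl
  let μ : Γ(F₁, a) ⊗[A] Γ(F₂, b) →ₗ[A] Γ(P₁, w) ⊗[Γ(P, w)] Γ(P₂, w) :=
    TensorProduct.lift (LinearMap.mk₂ A (fun m n => ψ₁ m ⊗ₜ[Γ(P, w)] ψ₂ n)
      (fun m m' n => by rw [map_add, TensorProduct.add_tmul])
      (fun r m n => by rw [← IsScalarTower.algebraMap_smul Γ(X₁, a) r m, map_smul,
        ← IsScalarTower.algebraMap_smul Γ(P, w) (algebraMap A Γ(X₁, a) r) (ψ₁ m),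
        ← IsScalarTower.algebraMap_apply, TensorProduct.smul_tmul', IsScalarTower.algebraMap_smul])
      (fun m n n' => by rw [map_add, TensorProduct.tmul_add])
      (fun r m n => by rw [← IsScalarTower.algebraMap_smul Γ(X₂, b) r n, map_smul,
        ← IsScalarTower.algebraMap_smul Γ(P, w) (algebraMap A Γ(X₂, b) r) (ψ₂ n),
        ← IsScalarTower.algebraMap_apply, TensorProduct.tmul_smul, IsScalarTower.algebraMap_smul]))
  have hμ : Function.Bijective μ := bijective_box ψ₁ h₁ ψ₂ h₂ μ fun m n => rfl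
  have hcomp : ∀ x : Γ(F₁, a) ⊗[A] Γ(F₂, b),
      (show Γ(tens P₁ P₂, w) from boxSec hf₁ hf₂ F₁ F₂ a b w ha hb x) = CohBCLib.secTens P₁ P₂ w (μ x) := by
    intro x
    induction x using TensorProduct.induction_on with
    | zero => rw [map_zero, map_zero]; exact map_zero _
    | add y z hy hz => rw [map_add, map_add, ← hy, ← hz]; exact map_add (boxSec hf₁ hf₂ F₁ F₂ a b w ha hb) y z
    | tmul m n => rfl
  have h := (CohBCLib.secTens_bijective P₁ P₂ hwA).comp hμ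
  rw [show (CohBCLib.secTens P₁ P₂ w ∘ μ) = fun x => (show Γ(tens P₁ P₂, w) from boxSec hf₁ hf₂ F₁ F₂ a b w ha hb x)
    from funext fun x => (hcomp x).symm] at h
  exact h

variable {ι κ : Type u} (U : ι → X₁.Opens) (V : κ → X₂.Opens)

/-- The product cover. -/
noncomputable def prodCov (p₁ : P ⟶ X₁) (p₂ : P ⟶ X₂) : ι × κ → P.Opens := fun x => p₁ ⁻¹ᵁ U x.1 ⊓ p₂ ⁻¹ᵁ V x.2

theorem prodCov_inf [DecidableEq ι] [DecidableEq κ] (S : Finset (ι × κ)) :
    S.inf (prodCov U V p₁ p₂) = p₁ ⁻¹ᵁ (S.image Prod.fst).inf U ⊓ p₂ ⁻¹ᵁ (S.image Prod.snd).inf V := by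
  induction S using Finset.induction with
  | empty => simp
  | insert x S hx ih =>
    rw [Finset.inf_insert, Finset.image_insert, Finset.image_insert, Finset.inf_insert, Finset.inf_insert, ih,
      Scheme.Hom.preimage_inf, Scheme.Hom.preimage_inf, inf_inf_inf_comm]
    rfl

theorem prodCov_le_fst [DecidableEq ι] [DecidableEq κ] (S : Finset (ι × κ)) :
    S.inf (prodCov U V p₁ p₂) ≤ p₁ ⁻¹ᵁ (S.image Prod.fst).inf U :=
  (prodCov_inf U V S).le.trans inf_le_left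

theorem prodCov_le_snd [DecidableEq ι] [DecidableEq κ] (S : Finset (ι × κ)) :
    S.inf (prodCov U V p₁ p₂) ≤ p₂ ⁻¹ᵁ (S.image Prod.snd).inf V :=
  (prodCov_inf U V S).le.trans inf_le_right

/-- The map of systems given by box products. -/
noncomputable def boxNat [DecidableEq ι] [DecidableEq κ] :
    D (covSys f₁ U F₁) (covSys f₂ V F₂) ⟶ covSys f (prodCov U V p₁ p₂) (box p₁ p₂ F₁ F₂) where
  app S := ModuleCat.ofHom (boxSec hf₁ hf₂ F₁ F₂ _ _ _ (prodCov_le_fst U V S) (prodCov_le_snd U V S))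
  naturality {S T} g := ModuleCat.hom_ext (LinearMap.ext fun x =>
    (boxSec_natural hf₁ hf₂ F₁ F₂ _ _ _ _ (Finset.inf_mono (Finset.image_subset_image g.le))
      (Finset.inf_mono (Finset.image_subset_image g.le)) (Finset.inf_mono g.le) x).symm)

theorem iSup_prodCov (hU : (⨆ i, U i) = ⊤) (hV : (⨆ j, V j) = ⊤) : (⨆ x, prodCov U V p₁ p₂ x) = ⊤ := by
  rw [eq_top_iff]
  intro y _
  obtain ⟨i, hi⟩ := Opens.mem_iSup.mp (hU.ge (trivial : p₁ y ∈ ⊤))
  obtain ⟨j, hj⟩ := Opens.mem_iSup.mp (hV.ge (trivial : p₂ y ∈ ⊤))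
  exact Opens.mem_iSup.mpr ⟨(i, j), hi, hj⟩

theorem isAffineOpen_prodCov [DecidableEq ι] [DecidableEq κ] (H : IsPullback p₁ p₂ f₁ f₂)
    (haffU : ∀ t : Finset ι, t.Nonempty → IsAffineOpen (t.inf U))
    (haffV : ∀ t : Finset κ, t.Nonempty → IsAffineOpen (t.inf V)) (S : Finset (ι × κ)) (hS : S.Nonempty) :
    IsAffineOpen (S.inf (prodCov U V p₁ p₂)) := by
  rw [prodCov_inf]
  exact RpushLib.isAffineOpen_fibre H (isAffineOpen_top _) (haffV _ (hS.image _)) le_top (haffU _ (hS.image _)) le_top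

include hf₁ hf₂ in
/-- **Künneth for the product cover.** -/
theorem nonempty_kunneth_HA (H : IsPullback p₁ p₂ f₁ f₂) [Coh.IsQCoh F₁] [Coh.IsQCoh F₂] [Fintype ι] [Fintype κ]
    [DecidableEq ι] [DecidableEq κ] (hU : (⨆ i, U i) = ⊤) (hV : (⨆ j, V j) = ⊤)
    (haffU : ∀ t : Finset ι, t.Nonempty → IsAffineOpen (t.inf U))
    (haffV : ∀ t : Finset κ, t.Nonempty → IsAffineOpen (t.inf V))
    (hQ : ∀ S : Finset ι, S.Nonempty → Module.Flat A ((covSys f₁ U F₁).obj S))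
    (hcok : ∀ n, Module.Flat A (Coch (covSys f₁ U F₁) n ⧸ Bd (covSys f₁ U F₁) n))
    (hH : ∀ n, Module.Flat A ((CohBCLib.HA f₁ n).obj F₁)) (n : ℕ) :
    Nonempty (((CohBCLib.HA f n).obj (box p₁ p₂ F₁ F₂) : Type u) ≃ₗ[A]
      DirectSum (Finset.HasAntidiagonal.antidiagonal n) fun pq =>
        ((CohBCLib.HA f₁ pq.1.1).obj F₁ : Type u) ⊗[A] ((CohBCLib.HA f₂ pq.1.2).obj F₂ : Type u)) := by
  classical
  have haU : ∀ (m : ℕ) (J : Fin (m + 1) → ι), IsAffineOpen (capX U J) := fun m J =>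
    inf_img U J ▸ haffU _ (img_nonempty J)
  have haV : ∀ (m : ℕ) (J : Fin (m + 1) → κ), IsAffineOpen (capX V J) := fun m J =>
    inf_img V J ▸ haffV _ (img_nonempty J)
  let W := prodCov U V p₁ p₂
  let G := box p₁ p₂ F₁ F₂
  have haW : ∀ (m : ℕ) (J : Fin (m + 1) → ι × κ), IsAffineOpen (capX W J) := fun m J =>
    inf_img W J ▸ isAffineOpen_prodCov U V H haffU haffV _ (img_nonempty J)
  haveI := KFlatLib.isQCoh_pullback p₁ F₁
  haveI := KFlatLib.isQCoh_pullback p₂ F₂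
  haveI : Coh.IsQCoh G := (Groth.Agent.S2297.result (pb p₁ F₁) (pb p₂ F₂)).1
  let Q := covSys f₁ U F₁
  let R := covSys f₂ V F₂
  let η := boxNat (f := f) hf₁ hf₂ F₁ F₂ U V
  have hη : ∀ S : Finset (ι × κ), S.Nonempty → Function.Bijective (η.app S).hom := fun S hS =>
    boxSec_bijective hf₁ hf₂ F₁ F₂ H (haffU _ (hS.image _)) (haffV _ (hS.image _)) (prodCov_inf U V S) _ _
  let e : ∀ m, Coch (D Q R) m ≃ₗ[A] (((cechA f W).obj G).X m : Type u) := fun m =>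
    (LinearEquiv.ofBijective (cochMap η m)
      ⟨fun x y h => funext fun c => (hη _ (img_nonempty c)).1 (congrFun h c),
        fun y => ⟨fun c => ((hη _ (img_nonempty c)).2 (y c)).choose,
          funext fun c => ((hη _ (img_nonempty c)).2 (y c)).choose_spec⟩⟩).trans (covEquiv f W G m)
  have he : ∀ m x, (((cechA f W).obj G).d m (m + 1)).hom (e m x) = e (m + 1) (dd (D Q R) m x) := fun m x =>
    (covEquiv_d f W G m (cochMap η m x)).trans (congrArg (covEquiv f W G (m + 1)) (cochMap_dd η m x))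
  let c1 := fun m => covH f₁ U F₁ hU haU m
  let c2 := fun m => covH f₂ V F₂ hV haV m
  have hHQ : ∀ m, Module.Flat A (Hc Q m) := fun m => by
    haveI := hH m
    exact Module.Flat.of_linearEquiv (c1 m)
  obtain ⟨k⟩ := nonempty_kunneth Q R hQ hcok hHQ n
  exact ⟨((CohBCLib.hCmp f W haW (iSup_prodCov U V hU hV) n G).toLinearEquiv.symm.trans (hcEquiv e he n).symm).trans
    (k.trans (DirectSum.congrLinearEquiv fun pq => TensorProduct.congr (c1 pq.1.1) (c2 pq.1.2)))⟩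

end KunnethDiagLib
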