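import Groth.Agent.KunnethDiagLib.Elem
import Groth.Agent.KFlatLib.CxFlat
import Groth.Agent.CohCmpLib.Hm

/-! The cross product with an elementary system is bijective. -/

set_option autoImplicit false
set_option maxHeartbeats 1000000

universe u

open CategoryTheory CategoryTheory.Limits TensorProduct

namespace KunnethDiagLib

theorem map_map' {A : Type u} [CommRing A] {τ : Type u} (R : Sys A τ) {S T T' V : Finset τ} (g : S ⟶ T) (g' : T ⟶ V)
    (h : S ⟶ T') (h' : T' ⟶ V) (x : R.obj S) : (R.map g').hom ((R.map g).hom x) = (R.map h').hom ((R.map h).hom x) :=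
  (map_map R g g' (g ≫ g') x).trans (map_map R h h' (g ≫ g') x).symm

variable {A : Type u} [CommRing A] {ι κ : Type u} [DecidableEq ι] [DecidableEq κ] [Finite ι]
  (Q : Sys A ι) (P : Sys A κ) (k : κ)

/-- Elements over `{k}`. -/
abbrev Mk : Type u := (P.obj (insert k ∅) : ModuleCat.{u} A)

/-- Cochains of `Q` times elements over `{k}`. -/
noncomputable def lamb (n : ℕ) : Coch Q n ⊗[A] (Mk P k) →ₗ[A] Coch (D Q (Pk P k)) n :=
  TensorProduct.lift (LinearMap.mk₂ A (fun c m => crossCoch Q (Pk P k) (constZ P k m) n c)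
    (fun _ _ _ => map_add _ _ _) (fun _ _ _ => map_smul _ _ _)
    (fun c m m' => by
      funext a
      show val Q _ _ (img_fst_le a) c ⊗ₜ[A] val (Pk P k) _ _ (img_snd_le a 0) (constCoch P k (m + m')) = _
      rw [map_add, map_add, TensorProduct.tmul_add]
      rfl)
    (fun r c m => by
      funext a
      show val Q _ _ (img_fst_le a) c ⊗ₜ[A] val (Pk P k) _ _ (img_snd_le a 0) (constCoch P k (r • m)) = _
      rw [map_smul, map_smul, TensorProduct.tmul_smul]
      rfl))

/-- The tuple over `k`. -/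
def pairs {n : ℕ} (I : Fin (n + 1) → ι) : Fin (n + 1) → ι × κ := fun j => (I j, k)

theorem pairs_fst {n : ℕ} (I : Fin (n + 1) → ι) : (img (pairs k I)).image Prod.fst ⊆ img I := by
  intro x hx
  obtain ⟨p, hp, rfl⟩ := Finset.mem_image.mp hx
  obtain ⟨j, -, rfl⟩ := Finset.mem_image.mp hp
  exact Finset.mem_image_of_mem _ (Finset.mem_univ j)

theorem pairs_snd {n : ℕ} (I : Fin (n + 1) → ι) :
    insert k ((img (pairs k I)).image Prod.snd) ⊆ insert k ∅ := by
  refine Finset.insert_subset (Finset.mem_insert_self _ _) fun x hx => ?_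
  obtain ⟨p, hp, rfl⟩ := Finset.mem_image.mp hx
  obtain ⟨j, -, rfl⟩ := Finset.mem_image.mp hp
  exact Finset.mem_insert_self _ _

/-- Splitting cochains into coordinates. -/
noncomputable def spliteq (n : ℕ) :
    Coch Q n ⊗[A] (Mk P k) ≃ₗ[A] ∀ I : Fin (n + 1) → ι, ((Q.obj (img I) : Type u) ⊗[A] (Mk P k)) :=
  letI := Fintype.ofFinite ι
  TensorProduct.piLeft A (Mk P k) (fun I : Fin (n + 1) → ι => (Q.obj (img I) : Type u))

theorem spliteq_tmul (n : ℕ) (c : Coch Q n) (m : (Mk P k)) (I : Fin (n + 1) → ι) :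
    spliteq Q P k n (c ⊗ₜ m) I = c I ⊗ₜ m := by
  simp [spliteq]

/-- Reading off at the tuples over `k`. -/
noncomputable def readK (n : ℕ) : Coch (D Q (Pk P k)) n →ₗ[A] Coch Q n ⊗[A] (Mk P k) :=
  (spliteq Q P k n).symm.toLinearMap ∘ₗ LinearMap.pi fun I =>
    (TensorProduct.map (Q.map (homOfLE (pairs_fst k I))).hom (P.map (homOfLE (pairs_snd k I))).hom) ∘ₗ
      LinearMap.proj (pairs k I)

theorem lamb_apply (n : ℕ) (t : Coch Q n ⊗[A] (Mk P k)) (a : Fin (n + 1) → ι × κ) :
    lamb Q P k n t a = TensorProduct.map (Q.map (homOfLE (img_fst_le a))).hom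
      (P.map (homOfLE (Finset.insert_subset_insert k (Finset.empty_subset ((img a).image Prod.snd))))).hom
      (spliteq Q P k n t (Prod.fst ∘ a)) := by
  induction t using TensorProduct.induction_on with
  | zero =>
    rw [map_zero, map_zero]
    exact (map_zero _).symm
  | add x y hx hy =>
    rw [map_add, map_add]
    refine (congrArg₂ (· + ·) hx hy).trans ?_
    exact (map_add _ _ _).symm
  | tmul c m =>
    rw [spliteq_tmul, TensorProduct.map_tmul]
    show val Q _ _ (img_fst_le a) c ⊗ₜ[A] val (Pk P k) _ _ (img_snd_le a 0) (constCoch P k m) = _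
    exact congrArg (fun z => _ ⊗ₜ[A] z) (map_map P _ _ _ m)

theorem lamb_readK (n : ℕ) (x : Coch (D Q (Pk P k)) n) :
    lamb Q P k n (readK Q P k n x) = pull id (toK k) (θD P k Q) (toK k) (fun _ => Or.inr rfl) n x := by
  funext a
  rw [lamb_apply]
  show _ = ((θD P k Q).app (img a)).hom (((D Q (Pk P k)).map
    (homOfLE (img_le_hull id (toK k) fun j => ⟨j, Or.inr rfl⟩ : img (toK k ∘ a) ⊆ _))).hom (x (toK k ∘ a)))
  rw [show readK Q P k n x = (spliteq Q P k n).symm _ from rfl, LinearEquiv.apply_symm_apply]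
  refine LinearMap.congr_fun (TensorProduct.ext' fun p q => ?_ :
    (TensorProduct.map (Q.map (homOfLE (img_fst_le a))).hom
      (P.map (homOfLE (Finset.insert_subset_insert k (Finset.empty_subset ((img a).image Prod.snd))))).hom) ∘ₗ
      (TensorProduct.map (Q.map (homOfLE (pairs_fst k (Prod.fst ∘ a)))).hom
        (P.map (homOfLE (pairs_snd k (Prod.fst ∘ a)))).hom) =
    ((θD P k Q).app (img a)).hom ∘ₗ ((D Q (Pk P k)).map
      (homOfLE (img_le_hull id (toK k) fun j => ⟨j, Or.inr rfl⟩ : img (toK k ∘ a) ⊆ _))).hom) (x (toK k ∘ a))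
  show (Q.map _).hom ((Q.map _).hom p) ⊗ₜ (P.map _).hom ((P.map _).hom q) =
    (Q.map _).hom ((Q.map _).hom p) ⊗ₜ (P.map _).hom ((P.map _).hom q)
  exact congrArg₂ (fun u v => u ⊗ₜ[A] v) (map_map' Q _ _ _ _ p) (map_map' P _ _ _ _ q)

theorem readK_lamb (n : ℕ) (t : Coch Q n ⊗[A] (Mk P k)) : readK Q P k n (lamb Q P k n t) = t := by
  refine (LinearEquiv.symm_apply_eq _).mpr (funext fun I => ?_)
  show TensorProduct.map (Q.map (homOfLE (pairs_fst k I))).hom (P.map (homOfLE (pairs_snd k I))).hom
    (lamb Q P k n t (pairs k I)) = spliteq Q P k n t I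
  rw [lamb_apply]
  refine LinearMap.congr_fun (?_ : (TensorProduct.map (Q.map (homOfLE (pairs_fst k I))).hom
    (P.map (homOfLE (pairs_snd k I))).hom) ∘ₗ (TensorProduct.map (Q.map (homOfLE (img_fst_le (pairs k I)))).hom
      (P.map (homOfLE (Finset.insert_subset_insert k
        (Finset.empty_subset ((img (pairs k I)).image Prod.snd))))).hom) = LinearMap.id) (spliteq Q P k n t I)
  refine TensorProduct.ext' fun p q => ?_
  show (Q.map _).hom ((Q.map _).hom p) ⊗ₜ (P.map _).hom ((P.map _).hom q) = p ⊗ₜ q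
  exact congrArg₂ (fun u v => u ⊗ₜ[A] v) ((map_map Q _ _ (homOfLE subset_rfl) p).trans (map_self Q _ p))
    ((map_map P _ _ (homOfLE subset_rfl) q).trans (map_self P _ q))

theorem lamb_injective (n : ℕ) : Function.Injective (lamb Q P k n) :=
  Function.LeftInverse.injective (readK_lamb Q P k n)

theorem lamb_dd (n : ℕ) (t : Coch Q n ⊗[A] (Mk P k)) :
    dd (D Q (Pk P k)) n (lamb Q P k n t) = lamb Q P k (n + 1) ((dd Q n).rTensor (Mk P k) t) := by
  induction t using TensorProduct.induction_on with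
  | zero => simp only [map_zero]
  | add x y hx hy => simp only [map_add, hx, hy]
  | tmul c m => exact crossCoch_dd Q _ n c

theorem lamb_incl_mem (n : ℕ) (w : Zc Q n ⊗[A] (Mk P k)) :
    lamb Q P k n ((Zc Q n).subtype.rTensor (Mk P k) w) ∈ Zc (D Q (Pk P k)) n := by
  rw [LinearMap.mem_ker, lamb_dd, ← LinearMap.rTensor_comp_apply,
    show dd Q n ∘ₗ (Zc Q n).subtype = 0 from LinearMap.ext fun x => x.2, LinearMap.rTensor_zero,
    LinearMap.zero_apply, map_zero]

/-- From cocycles of `Q` to the source of the cross product. -/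
noncomputable def srcMap (n : ℕ) : Zc Q n ⊗[A] (Mk P k) →ₗ[A] Hc Q n ⊗[A] Zc (Pk P k) 0 :=
  TensorProduct.map (cls Q n) (constZ P k).toLinearMap

theorem Psi_srcMap (n : ℕ) (w : Zc Q n ⊗[A] (Mk P k)) :
    Psi Q (Pk P k) n (srcMap Q P k n w) = cls _ n ⟨_, lamb_incl_mem Q P k n w⟩ := by
  induction w using TensorProduct.induction_on with
  | zero =>
    rw [map_zero, map_zero]
    symm
    refine (Submodule.Quotient.mk_eq_zero _).mpr ?_
    show lamb Q P k n ((Zc Q n).subtype.rTensor (Mk P k) 0) ∈ Bd _ n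
    rw [map_zero, map_zero]
    exact zero_mem _
  | add x y hx hy =>
    rw [map_add, map_add, hx, hy, ← map_add]
    exact congrArg _ (Subtype.ext ((map_add _ _ _).symm.trans (congrArg _ (map_add _ _ _).symm)))
  | tmul c m => rfl

variable (hC : ∀ n, Module.Flat A (Coch Q n)) (hcok : ∀ n, Module.Flat A (Coch Q n ⧸ Bd Q n))

include hC hcok

theorem flat_range_dd (n : ℕ) : Module.Flat A (LinearMap.range (dd Q n)) := by
  haveI := hC (n + 1)
  haveI : Module.Flat A (Coch Q (n + 1) ⧸ LinearMap.range (dd Q n)) := hcok (n + 1)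
  exact CohCmpLib.flat_range_of_flat_quotient (dd Q n)

theorem rTensor_incl_injective (n : ℕ) (M : Type u) [AddCommGroup M] [Module A M] :
    Function.Injective ((Zc Q n).subtype.rTensor M) := by
  haveI := flat_range_dd Q hC hcok n
  refine KFlatLib.rTensor_injective_of_flat_quotient (Zc Q n).subtype (dd Q n).rangeRestrict
    (Submodule.injective_subtype _) ?_ (LinearMap.surjective_rangeRestrict _) M
  rw [LinearMap.exact_iff, LinearMap.ker_rangeRestrict, Submodule.range_subtype]

theorem exists_incl_preimage (n : ℕ) (M : Type u) [AddCommGroup M] [Module A M] (u : Coch Q n ⊗[A] M)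
    (hu : (dd Q n).rTensor M u = 0) : ∃ w, (Zc Q n).subtype.rTensor M w = u := by
  haveI := hC (n + 1)
  haveI : Module.Flat A (Coch Q (n + 1) ⧸ LinearMap.range (dd Q n)) := hcok (n + 1)
  have hinj : Function.Injective ((LinearMap.range (dd Q n)).subtype.rTensor M) :=
    KFlatLib.rTensor_injective_of_flat_quotient _ (LinearMap.range (dd Q n)).mkQ (Submodule.injective_subtype _)
      (LinearMap.exact_subtype_mkQ _) (Submodule.mkQ_surjective _) M
  have hex : Function.Exact (Zc Q n).subtype (dd Q n).rangeRestrict := by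
    rw [LinearMap.exact_iff, LinearMap.ker_rangeRestrict, Submodule.range_subtype]
  refine (rTensor_exact M hex (LinearMap.surjective_rangeRestrict _) u).mp (hinj ?_)
  rw [map_zero, ← LinearMap.rTensor_comp_apply]
  exact hu

/-- **The cross product with an elementary system is bijective.** -/
theorem Psi_Pk_bijective (n : ℕ) : Function.Bijective (Psi Q (Pk P k) n) := by
  have hsrc : Function.Surjective (srcMap Q P k n) :=
    TensorProduct.map_surjective (cls_surjective Q n) (constZ P k).surjective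
  constructor
  · rw [injective_iff_map_eq_zero]
    intro t ht
    obtain ⟨w, rfl⟩ := hsrc t
    rw [Psi_srcMap] at ht
    cases n with
    | zero =>
      have h1 : (Zc Q 0).subtype.rTensor (Mk P k) w = 0 := lamb_injective Q P k 0 (by
        rw [map_zero]; exact congrArg Subtype.val ((cls_zero_iff_zero _ _).mp ht))
      rw [rTensor_incl_injective Q hC hcok 0 (Mk P k) (h1.trans (map_zero _).symm), map_zero]
    | succ n =>
      obtain ⟨y, hy⟩ := (cls_succ_eq_zero_iff _ _ _).mp ht
      let v := lamb Q P k (n + 1) ((Zc Q (n + 1)).subtype.rTensor (Mk P k) w)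
      have hv : v = lamb Q P k (n + 1) ((dd Q n).rTensor (Mk P k) (readK Q P k n y)) := by
        have h1 : pull id (toK k) (θD P k Q) (toK k) (fun _ => Or.inr rfl) (n + 1) v = v := by
          rw [← lamb_readK, readK_lamb]
        have h2 : pull id (toK k) (θD P k Q) (toK k) (fun _ => Or.inr rfl) (n + 1) (dd _ n y) = v :=
          (congrArg _ hy).trans h1
        rw [← lamb_dd, lamb_readK, pull_dd]
        exact h2.symm
      let dd' : Coch Q n →ₗ[A] Zc Q (n + 1) :=
        LinearMap.codRestrict _ (dd Q n) fun x => dd_dd Q n x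
      have hw : w = dd'.rTensor (Mk P k) (readK Q P k n y) := by
        refine rTensor_incl_injective Q hC hcok (n + 1) (Mk P k) ((lamb_injective Q P k (n + 1) hv).trans ?_)
        rw [← LinearMap.rTensor_comp_apply]
        rfl
      rw [hw, srcMap]
      generalize readK Q P k n y = z
      induction z using TensorProduct.induction_on with
      | zero => rw [map_zero, map_zero]
      | add a b ha hb => rw [map_add, map_add, ha, hb, add_zero]
      | tmul c m =>
        rw [LinearMap.rTensor_tmul, TensorProduct.map_tmul,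
          (cls_succ_eq_zero_iff Q n (dd' c)).mpr ⟨c, rfl⟩, TensorProduct.zero_tmul]
  · intro h
    obtain ⟨z, rfl⟩ := cls_surjective _ _ h
    let z' := pull id (toK k) (θD P k Q) (toK k) (fun _ => Or.inr rfl) n z.1
    have hz : cls _ n ⟨z', pull_mem id (toK k) (θD P k Q) (toK k) (fun _ => Or.inr rfl) n z⟩ = cls _ n z :=
      (cls_pull_eq id (toK k) (θD P k Q) n z).trans
        (congrArg _ (Subtype.ext (θD_pull_id P k Q n z.1)))
    have hu : (dd Q n).rTensor (Mk P k) (readK Q P k n z.1) = 0 := lamb_injective Q P k (n + 1) (by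
      rw [← lamb_dd, lamb_readK, map_zero]
      exact pull_mem id (toK k) (θD P k Q) (toK k) (fun _ => Or.inr rfl) n z)
    obtain ⟨w, hw⟩ := exists_incl_preimage Q hC hcok n (Mk P k) _ hu
    refine ⟨srcMap Q P k n w, (Psi_srcMap Q P k n w).trans (Eq.trans ?_ hz)⟩
    exact congrArg _ (Subtype.ext (show lamb Q P k n ((Zc Q n).subtype.rTensor (Mk P k) w) = z' by
      rw [hw, lamb_readK]))

end KunnethDiagLib
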