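import Mathlib
import Groth.Agent.FlatCxLib.Homology

/-! Čech cochains of a system of modules on the finite subsets of an index type. -/

set_option autoImplicit false

universe u

open CategoryTheory CategoryTheory.Limits AlgebraicTopology Simplicial

namespace KunnethDiagLib

variable {A : Type u} [CommRing A]

/-- Systems of modules on finite subsets, covariant for inclusion. -/
abbrev Sys (A : Type u) [CommRing A] (τ : Type u) := Finset τ ⥤ ModuleCat.{u} A

variable {τ : Type u} [DecidableEq τ]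

/-- The image of a tuple. -/
abbrev img {n : ℕ} (a : Fin n → τ) : Finset τ := Finset.univ.image a

theorem img_comp_le {n m : ℕ} (a : Fin n → τ) (s : Fin m → Fin n) : img (a ∘ s) ⊆ img a := by
  intro x hx
  obtain ⟨j, -, rfl⟩ := Finset.mem_image.mp hx
  exact Finset.mem_image.mpr ⟨s j, Finset.mem_univ _, rfl⟩

variable (R : Sys A τ)

/-- Cochains. -/
abbrev Coch (n : ℕ) : Type u := ∀ a : Fin (n + 1) → τ, (R.obj (img a) : Type u)

/-- The value at a tuple, in the module of a larger subset. -/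
noncomputable def val {n : ℕ} (T : Finset τ) (a : Fin (n + 1) → τ) (h : img a ⊆ T) : Coch R n →ₗ[A] (R.obj T : Type u) :=
  (R.map (homOfLE h)).hom ∘ₗ LinearMap.proj a

theorem val_self {n : ℕ} (a : Fin (n + 1) → τ) (x : Coch R n) : val R (img a) a subset_rfl x = x a := by
  show (R.map (𝟙 _)).hom (x a) = x a
  rw [R.map_id]
  rfl

theorem val_congr {n : ℕ} {T : Finset τ} {a b : Fin (n + 1) → τ} (e : a = b) (h : img a ⊆ T) (h' : img b ⊆ T)
    (x : Coch R n) : val R T a h x = val R T b h' x := by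
  subst e; rfl

theorem map_val {n : ℕ} {T T' : Finset τ} (a : Fin (n + 1) → τ) (h : img a ⊆ T) (g : T ⟶ T') (h' : img a ⊆ T')
    (x : Coch R n) : (R.map g).hom (val R T a h x) = val R T' a h' x := by
  show (R.map (homOfLE h) ≫ R.map g).hom (x a) = _
  rw [← R.map_comp]
  rfl

/-- The cosimplicial module. -/
noncomputable def cobj : CosimplicialObject (ModuleCat.{u} A) where
  obj n := ModuleCat.of A (Coch R n.len)
  map {n m} s := ModuleCat.ofHom (LinearMap.pi fun a : Fin (m.len + 1) → τ =>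
    val R (img a) (a ∘ s.toOrderHom) (img_comp_le a _))
  map_id n := ModuleCat.hom_ext (LinearMap.ext fun x => funext fun a => val_self R a x)
  map_comp {n m k} s t := ModuleCat.hom_ext (LinearMap.ext fun x => funext fun a => by
    refine Eq.trans ?_ (map_val R ((a ∘ t.toOrderHom) ∘ s.toOrderHom) (img_comp_le _ _)
      (homOfLE (img_comp_le a t.toOrderHom)) ((img_comp_le _ _).trans (img_comp_le _ _)) x).symm
    exact val_congr R rfl _ _ x)

/-- The differential. -/
noncomputable def dd (n : ℕ) : Coch R n →ₗ[A] Coch R (n + 1) :=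
  LinearMap.pi fun a => ∑ i : Fin (n + 2), ((-1 : ℤ) ^ (i : ℕ)) • val R (img a) (a ∘ i.succAbove) (img_comp_le a _)

theorem dd_apply (n : ℕ) (x : Coch R n) (a : Fin (n + 2) → τ) :
    dd R n x a = ∑ i : Fin (n + 2), ((-1 : ℤ) ^ (i : ℕ)) • val R (img a) (a ∘ i.succAbove) (img_comp_le a _) x := by
  simp [dd]

theorem dd_eq (n : ℕ) : (ModuleCat.ofHom (dd R n) : ModuleCat.of A (Coch R n) ⟶ ModuleCat.of A (Coch R (n + 1))) =
    AlternatingCofaceMapComplex.objD (cobj R) n := by
  refine ModuleCat.hom_ext (LinearMap.ext fun x => funext fun a => ?_)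
  refine (dd_apply R n x a).trans (Eq.symm ?_)
  let ev : ((cobj R).obj ⦋n⦌ ⟶ (cobj R).obj ⦋n + 1⦌) →+ (R.obj (img a) : Type u) :=
    { toFun := fun g => g.hom x a, map_zero' := rfl, map_add' := fun _ _ => rfl }
  change ev (∑ i : Fin (n + 2), ((-1 : ℤ) ^ (i : ℕ)) • (cobj R).δ i) = _
  rw [map_sum]
  refine Finset.sum_congr rfl fun i _ => ?_
  rw [map_zsmul]
  rfl

theorem dd_sq (n : ℕ) : dd R (n + 1) ∘ₗ dd R n = 0 := by
  have h := AlternatingCofaceMapComplex.d_squared (cobj R) n
  rw [← dd_eq R n, ← dd_eq R (n + 1)] at h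
  exact congrArg ModuleCat.Hom.hom h

/-- The Čech complex. -/
noncomputable def cx : CochainComplex (ModuleCat.{u} A) ℕ :=
  CochainComplex.of (fun n => ModuleCat.of A (Coch R n)) (fun n => ModuleCat.ofHom (dd R n))
    (fun n => ModuleCat.hom_ext (dd_sq R n))

theorem cx_d_eq (n : ℕ) : (cx R).d n (n + 1) = ModuleCat.ofHom (dd R n) :=
  CochainComplex.of_d (fun n => ModuleCat.of A (Coch R n)) (fun n => ModuleCat.ofHom (dd R n)) n

theorem cx_d (n : ℕ) (x : Coch R n) (a : Fin (n + 2) → τ) :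
    ((cx R).d n (n + 1)).hom x a =
      ∑ i : Fin (n + 2), ((-1 : ℤ) ^ (i : ℕ)) • val R (img a) (a ∘ i.succAbove) (img_comp_le a _) x := by
  rw [cx_d_eq]
  exact dd_apply R n x a

theorem val_d (n : ℕ) (x : Coch R n) {T : Finset τ} (a : Fin (n + 2) → τ) (h : img a ⊆ T) :
    val R T a h (((cx R).d n (n + 1)).hom x) =
      ∑ i : Fin (n + 2), ((-1 : ℤ) ^ (i : ℕ)) •
        val R T (a ∘ i.succAbove) ((img_comp_le a _).trans h) x := by
  show (R.map (homOfLE h)).hom _ = _
  rw [LinearMap.proj_apply, cx_d, map_sum]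
  refine Finset.sum_congr rfl fun i _ => ?_
  rw [map_zsmul]
  exact congrArg _ (map_val R _ _ _ _ x)

theorem val_dd (n : ℕ) (x : Coch R n) {T : Finset τ} (a : Fin (n + 2) → τ) (h : img a ⊆ T) :
    val R T a h (dd R n x) =
      ∑ i : Fin (n + 2), ((-1 : ℤ) ^ (i : ℕ)) •
        val R T (a ∘ i.succAbove) ((img_comp_le a _).trans h) x := by
  have e := val_d R n x a h
  rwa [cx_d_eq] at e

section Functor

variable {R} {R' : Sys A τ}

theorem map_app_val (f : R ⟶ R') {n : ℕ} {T : Finset τ} (a : Fin (n + 1) → τ) (h : img a ⊆ T) (x : Coch R n) :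
    (f.app T).hom (val R T a h x) = val R' T a h (fun b => (f.app (img b)).hom (x b)) :=
  congr($(f.naturality (homOfLE h)) (x a))

/-- The map of complexes of a morphism of systems. -/
noncomputable def cxMap (f : R ⟶ R') : cx R ⟶ cx R' where
  f n := ModuleCat.ofHom (LinearMap.pi fun a : Fin (n + 1) → τ => (f.app (img a)).hom ∘ₗ LinearMap.proj a)
  comm' i j h := by
    obtain rfl : i + 1 = j := h
    rw [cx_d_eq, cx_d_eq]
    refine ModuleCat.hom_ext (LinearMap.ext fun (x : Coch R i) => funext fun a => ?_)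
    refine (dd_apply R' i _ a).trans (Eq.symm ((congrArg (f.app (img a)).hom (dd_apply R i x a)).trans ?_))
    rw [map_sum]
    refine Finset.sum_congr rfl fun k _ => ?_
    rw [map_zsmul]
    exact congrArg _ (map_app_val f _ _ x)

theorem cxMap_apply (f : R ⟶ R') (n : ℕ) (x : Coch R n) (a : Fin (n + 1) → τ) :
    ((cxMap f).f n).hom x a = (f.app (img a)).hom (x a) := rfl

theorem cxMap_id : cxMap (𝟙 R) = 𝟙 (cx R) := rfl

theorem cxMap_comp {R'' : Sys A τ} (f : R ⟶ R') (g : R' ⟶ R'') : cxMap (f ≫ g) = cxMap f ≫ cxMap g := rfl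

theorem cxMap_add (f g : R ⟶ R') : cxMap (f + g) = cxMap f + cxMap g := rfl

end Functor

end KunnethDiagLib
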