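import Groth.Agent.KunnethDiagLib.Prism

/-! The diagonal system of two systems and the cross product with zero-cocycles. -/

set_option autoImplicit false

universe u

open CategoryTheory CategoryTheory.Limits TensorProduct

namespace KunnethDiagLib

variable {A : Type u} [CommRing A]

section Cls

variable {τ : Type u} [DecidableEq τ] {R R' : Sys A τ}

/-- Cocycles. -/
noncomputable abbrev Zc (R : Sys A τ) (n : ℕ) : Submodule A (Coch R n) := LinearMap.ker (dd R n)

/-- Coboundaries. -/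
noncomputable def Bd (R : Sys A τ) : ∀ n : ℕ, Submodule A (Coch R n)
  | 0 => ⊥
  | n + 1 => LinearMap.range (dd R n)

/-- Cohomology. -/
abbrev Hc (R : Sys A τ) (n : ℕ) : Type u := (Zc R n) ⧸ (Bd R n).comap (Zc R n).subtype

/-- The class of a cocycle. -/
noncomputable abbrev cls (R : Sys A τ) (n : ℕ) : Zc R n →ₗ[A] Hc R n := Submodule.mkQ _

theorem cls_surjective (R : Sys A τ) (n : ℕ) : Function.Surjective (cls R n) := Submodule.mkQ_surjective _

theorem cls_zero_iff_zero (R : Sys A τ) (x : Zc R 0) : cls R 0 x = 0 ↔ x = 0 :=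
  (Submodule.Quotient.mk_eq_zero _).trans ⟨fun h => Subtype.ext ((Submodule.mem_bot A).mp h),
    fun h => h ▸ Submodule.zero_mem _⟩

theorem cls_succ_eq_zero_iff (R : Sys A τ) (n : ℕ) (x : Zc R (n + 1)) :
    cls R (n + 1) x = 0 ↔ ∃ y, dd R n y = x.1 :=
  Submodule.Quotient.mk_eq_zero _

theorem dd_dd (R : Sys A τ) (n : ℕ) (x : Coch R n) : dd R (n + 1) (dd R n x) = 0 :=
  LinearMap.congr_fun (dd_sq R n) x

section Maps

variable {τ' : Type u} [DecidableEq τ'] {R₂ : Sys A τ'}
  (f : ∀ n, Coch R n →ₗ[A] Coch R₂ n) (hf : ∀ n x, dd R₂ n (f n x) = f (n + 1) (dd R n x))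

include hf in
theorem map_mem (n : ℕ) (x : Zc R n) : f n x.1 ∈ Zc R₂ n :=
  LinearMap.mem_ker.mpr ((hf n x.1).trans ((congrArg _ x.2).trans (map_zero _)))

/-- The map on cohomology of a map of cochains. -/
noncomputable def HMap (n : ℕ) : Hc R n →ₗ[A] Hc R₂ n :=
  Submodule.mapQ _ _ (LinearMap.codRestrict _ (f n ∘ₗ (Zc R n).subtype) (map_mem f hf n)) (by
    intro x hx
    cases n with
    | zero =>
      show f 0 x.1 ∈ (⊥ : Submodule A _)
      rw [Submodule.mem_bot, show x.1 = 0 from (Submodule.mem_bot A).mp hx, map_zero]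
    | succ n =>
      obtain ⟨y, hy⟩ := hx
      exact ⟨f n y, (hf n y).trans (congrArg _ hy)⟩)

theorem HMap_cls (n : ℕ) (x : Zc R n) : HMap f hf n (cls R n x) = cls R₂ n ⟨f n x.1, map_mem f hf n x⟩ := rfl

end Maps

/-- Cochains of a morphism of systems. -/
noncomputable def cochMap (f : R ⟶ R') (n : ℕ) : Coch R n →ₗ[A] Coch R' n :=
  LinearMap.pi fun a => (f.app (img a)).hom ∘ₗ LinearMap.proj a

theorem cochMap_apply (f : R ⟶ R') (n : ℕ) (x : Coch R n) (a : Fin (n + 1) → τ) :
    cochMap f n x a = (f.app (img a)).hom (x a) := rfl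

theorem cochMap_dd (f : R ⟶ R') (n : ℕ) (x : Coch R n) :
    dd R' n (cochMap f n x) = cochMap f (n + 1) (dd R n x) := by
  funext a
  rw [cochMap_apply, dd_apply, dd_apply, map_sum]
  refine Finset.sum_congr rfl fun i _ => ?_
  rw [map_zsmul]
  exact congrArg _ (map_app_val f _ _ x).symm

/-- The map on cohomology of a morphism of systems. -/
noncomputable abbrev SMap (f : R ⟶ R') (n : ℕ) : Hc R n →ₗ[A] Hc R' n := HMap (cochMap f) (cochMap_dd f) n

/-- The functorial map of zero-cocycles. -/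
noncomputable def ΓMap (f : R ⟶ R') : Zc R 0 →ₗ[A] Zc R' 0 :=
  LinearMap.codRestrict _ (cochMap f 0 ∘ₗ (Zc R 0).subtype) (map_mem (cochMap f) (cochMap_dd f) 0)

theorem val_zero_cocycle (s : Zc R 0) {T : Finset τ} (b b' : τ) (h : img (fun _ : Fin 1 => b) ⊆ T)
    (h' : img (fun _ : Fin 1 => b') ⊆ T) :
    val R T (fun _ : Fin 1 => b) h s.1 = val R T (fun _ : Fin 1 => b') h' s.1 := by
  let a : Fin 2 → τ := ![b', b]
  have ha : img a ⊆ T := by
    intro x hx
    obtain ⟨j, -, rfl⟩ := Finset.mem_image.mp hx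
    fin_cases j
    · exact h' (Finset.mem_image.mpr ⟨0, Finset.mem_univ _, rfl⟩)
    · exact h (Finset.mem_image.mpr ⟨0, Finset.mem_univ _, rfl⟩)
  have e := val_dd R 0 s.1 a ha
  have h0 : val R T a ha (dd R 0 s.1) = 0 := by rw [LinearMap.mem_ker.1 s.2, map_zero]
  have e' := h0.symm.trans e
  rw [Fin.sum_univ_two, Fin.val_zero, pow_zero, one_smul, Fin.val_one, pow_one, neg_smul, one_smul] at e'
  have ea : a ∘ (0 : Fin 2).succAbove = fun _ => b := by
    funext j; fin_cases j; rfl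
  have eb : a ∘ (1 : Fin 2).succAbove = fun _ => b' := by
    funext j; fin_cases j; rfl
  rw [val_congr R ea _ h, val_congr R eb _ h'] at e'
  exact add_neg_eq_zero.mp e'.symm

end Cls

section Diag

variable {ι κ : Type u} [DecidableEq ι] [DecidableEq κ]

/-- The diagonal system. -/
noncomputable def D (Q : Sys A ι) (P : Sys A κ) : Sys A (ι × κ) where
  obj S := ModuleCat.of A ((Q.obj (S.image Prod.fst) : Type u) ⊗[A] (P.obj (S.image Prod.snd) : Type u))
  map {S S'} g := ModuleCat.ofHom (TensorProduct.map (Q.map (homOfLE (Finset.image_subset_image g.le))).hom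
    (P.map (homOfLE (Finset.image_subset_image g.le))).hom)
  map_id S := ModuleCat.hom_ext (TensorProduct.ext' fun x y => by
    show (Q.map (𝟙 _)).hom x ⊗ₜ (P.map (𝟙 _)).hom y = x ⊗ₜ y
    rw [Q.map_id, P.map_id]
    rfl)
  map_comp {S S' S''} g g' := ModuleCat.hom_ext (TensorProduct.ext' fun x y => by
    show (Q.map _).hom x ⊗ₜ (P.map _).hom y = (Q.map _).hom ((Q.map _).hom x) ⊗ₜ (P.map _).hom ((P.map _).hom y)
    rw [← ModuleCat.comp_apply, ← ModuleCat.comp_apply, ← Q.map_comp, ← P.map_comp]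
    rfl)

variable (Q : Sys A ι) {P P' : Sys A κ}

/-- Functoriality of the diagonal system. -/
noncomputable def DMap (f : P ⟶ P') : D Q P ⟶ D Q P' where
  app S := ModuleCat.ofHom (LinearMap.lTensor _ (f.app (S.image Prod.snd)).hom)
  naturality {S S'} g := ModuleCat.hom_ext (TensorProduct.ext' fun x y => by
    show _ ⊗ₜ (f.app _).hom ((P.map _).hom y) = _ ⊗ₜ (P'.map _).hom ((f.app _).hom y)
    rw [← ModuleCat.comp_apply, f.naturality]
    rfl)

theorem img_fst_le {n : ℕ} (a : Fin n → ι × κ) : img (Prod.fst ∘ a) ⊆ (img a).image Prod.fst := by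
  rw [Finset.image_image]

theorem img_snd_le {n : ℕ} (a : Fin (n + 1) → ι × κ) (i : Fin (n + 1)) :
    img (fun _ : Fin 1 => (a i).2) ⊆ (img a).image Prod.snd := by
  intro x hx
  obtain ⟨j, -, rfl⟩ := Finset.mem_image.mp hx
  exact Finset.mem_image_of_mem _ (Finset.mem_image_of_mem _ (Finset.mem_univ i))

variable (P) in
/-- The cochain of the product with a zero-cocycle. -/
noncomputable def crossCoch (s : Zc P 0) (n : ℕ) : Coch Q n →ₗ[A] Coch (D Q P) n :=
  LinearMap.pi fun a =>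
    (((TensorProduct.mk A _ _).flip (val P ((img a).image Prod.snd) (fun _ => (a 0).2) (img_snd_le a 0) s.1)) ∘ₗ
      val Q ((img a).image Prod.fst) (Prod.fst ∘ a) (img_fst_le a))

theorem crossCoch_apply (s : Zc P 0) (n : ℕ) (x : Coch Q n) (a : Fin (n + 1) → ι × κ) :
    crossCoch Q P s n x a = val Q ((img a).image Prod.fst) (Prod.fst ∘ a) (img_fst_le a) x ⊗ₜ[A]
      val P ((img a).image Prod.snd) (fun _ => (a 0).2) (img_snd_le a 0) s.1 := rfl

theorem crossCoch_dd (s : Zc P 0) (n : ℕ) (x : Coch Q n) :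
    dd (D Q P) n (crossCoch Q P s n x) = crossCoch Q P s (n + 1) (dd Q n x) := by
  funext a
  rw [dd_apply, crossCoch_apply]
  have e := val_dd Q n x (Prod.fst ∘ a) (img_fst_le a)
  refine Eq.trans ?_ (congrArg (fun z => z ⊗ₜ[A] _) e).symm
  rw [TensorProduct.sum_tmul]
  refine Finset.sum_congr rfl fun i _ => ?_
  rw [← TensorProduct.smul_tmul']
  refine congrArg _ ?_
  show ((D Q P).map (homOfLE (img_comp_le a i.succAbove))).hom (crossCoch Q P s n x (a ∘ i.succAbove)) = _
  rw [crossCoch_apply]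
  show (Q.map _).hom _ ⊗ₜ (P.map _).hom _ = _
  refine congrArg₂ (fun p q => p ⊗ₜ[A] q) ?_ ?_
  · exact map_val Q _ _ _ _ x
  · refine (map_val P _ _ _ ((img_snd_le a (i.succAbove 0))) s.1).trans ?_
    exact val_zero_cocycle s _ _ _ _

theorem crossCoch_natural (f : P ⟶ P') (s : Zc P 0) (n : ℕ) (x : Coch Q n) :
    cochMap (DMap Q f) n (crossCoch Q P s n x) = crossCoch Q P' (ΓMap f s) n x := by
  funext a
  show (LinearMap.lTensor _ (f.app _).hom) (_ ⊗ₜ _) = _ ⊗ₜ _
  rw [LinearMap.lTensor_tmul]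
  exact congrArg _ (map_app_val f _ _ s.1)

theorem crossCoch_mem (s : Zc P 0) (n : ℕ) (x : Zc Q n) : crossCoch Q P s n x.1 ∈ Zc (D Q P) n :=
  map_mem (R := Q) (R₂ := D Q P) (fun m => crossCoch Q P s m) (fun m y => crossCoch_dd Q s m y) n x

variable (P) in
/-- The product with a zero-cocycle, on cohomology. -/
noncomputable def crossH (s : Zc P 0) (n : ℕ) : Hc Q n →ₗ[A] Hc (D Q P) n :=
  HMap (R := Q) (R₂ := D Q P) (fun m => crossCoch Q P s m) (fun m y => crossCoch_dd Q s m y) n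

theorem crossH_cls (s : Zc P 0) (n : ℕ) (x : Zc Q n) :
    crossH Q P s n (cls Q n x) = cls (D Q P) n ⟨crossCoch Q P s n x.1, crossCoch_mem Q s n x⟩ := rfl

variable (P) in
/-- The cross product, as a bilinear map. -/
noncomputable def psi (n : ℕ) : Hc Q n →ₗ[A] Zc P 0 →ₗ[A] Hc (D Q P) n :=
  LinearMap.mk₂ A (fun h s => crossH Q P s n h)
    (fun _ _ _ => map_add _ _ _) (fun _ _ _ => map_smul _ _ _)
    (fun h s t => by
      obtain ⟨x, rfl⟩ := cls_surjective Q n h
      rw [crossH_cls, crossH_cls, crossH_cls, ← map_add]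
      refine congrArg _ (Subtype.ext (funext fun a => ?_))
      show crossCoch Q P (s + t) n x.1 a = crossCoch Q P s n x.1 a + crossCoch Q P t n x.1 a
      exact (congrArg (fun z => val Q _ _ (img_fst_le a) x.1 ⊗ₜ[A] z)
        (map_add (val P _ _ (img_snd_le a 0)) s.1 t.1)).trans (TensorProduct.tmul_add _ _ _))
    (fun c h s => by
      obtain ⟨x, rfl⟩ := cls_surjective Q n h
      rw [crossH_cls, crossH_cls, ← map_smul]
      refine congrArg _ (Subtype.ext (funext fun a => ?_))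
      show crossCoch Q P (c • s) n x.1 a = c • crossCoch Q P s n x.1 a
      exact (congrArg (fun z => val Q _ _ (img_fst_le a) x.1 ⊗ₜ[A] z)
        (map_smul (val P _ _ (img_snd_le a 0)) c s.1)).trans (TensorProduct.tmul_smul _ _ _))

variable (P) in
/-- The cross product. -/
noncomputable def Psi (n : ℕ) : (Hc Q n) ⊗[A] Zc P 0 →ₗ[A] Hc (D Q P) n := TensorProduct.lift (psi Q P n)

theorem Psi_cls (n : ℕ) (x : Zc Q n) (s : Zc P 0) :
    Psi Q P n (cls Q n x ⊗ₜ s) = cls (D Q P) n ⟨crossCoch Q P s n x.1, crossCoch_mem Q s n x⟩ :=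
  rfl

theorem Psi_natural (f : P ⟶ P') (n : ℕ) (t : (Hc Q n) ⊗[A] Zc P 0) :
    SMap (DMap Q f) n (Psi Q P n t) =
      Psi Q P' n (LinearMap.lTensor _ (ΓMap f) t) := by
  induction t using TensorProduct.induction_on with
  | zero => simp only [map_zero]
  | add x y hx hy => simp only [map_add, hx, hy]
  | tmul h s =>
    rw [LinearMap.lTensor_tmul]
    obtain ⟨x, rfl⟩ := cls_surjective Q n h
    rw [Psi_cls, Psi_cls, HMap_cls]
    exact congrArg _ (Subtype.ext (crossCoch_natural Q f s n x.1))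

end Diag

end KunnethDiagLib
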