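import Groth.Agent.KunnethDiagLib.Diag

/-! The elementary systems `S ↦ P(S ∪ {k})`. -/

set_option autoImplicit false

universe u

open CategoryTheory CategoryTheory.Limits TensorProduct

namespace KunnethDiagLib

variable {A : Type u} [CommRing A]

theorem map_map {τ : Type u} (R : Sys A τ) {S T V : Finset τ} (g : S ⟶ T) (g' : T ⟶ V) (g'' : S ⟶ V)
    (x : R.obj S) : (R.map g').hom ((R.map g).hom x) = (R.map g'').hom x := by
  rw [← ModuleCat.comp_apply, ← R.map_comp]
  rfl

theorem map_self {τ : Type u} (R : Sys A τ) {S : Finset τ} (g : S ⟶ S) (x : R.obj S) : (R.map g).hom x = x := by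
  rw [Subsingleton.elim g (𝟙 S), R.map_id]
  rfl

section Pull

variable {τ τ' : Type u} [DecidableEq τ] [DecidableEq τ'] (φ₀ φ₁ : τ → τ') {R : Sys A τ} {R' : Sys A τ'}
  (θ : hull φ₀ φ₁ ⋙ R' ⟶ R)

theorem pull_dd (φ : τ → τ') (hφ : ∀ x, φ x = φ₀ x ∨ φ x = φ₁ x) (n : ℕ) (x : Coch R' n) :
    dd R n (pull φ₀ φ₁ θ φ hφ n x) = pull φ₀ φ₁ θ φ hφ (n + 1) (dd R' n x) := by
  funext a
  rw [dd_apply]
  refine Eq.trans ?_ (congrArg (θ.app (img a)).hom
    (val_dd R' n x (φ ∘ a) (img_le_hull φ₀ φ₁ fun j => ⟨j, hφ (a j)⟩))).symm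
  rw [map_sum]
  refine Finset.sum_congr rfl fun i _ => ?_
  rw [map_zsmul]
  exact congrArg _ (θ_val φ₀ φ₁ θ (img_comp_le a i.succAbove) _ _ x)

theorem pull_mem (φ : τ → τ') (hφ : ∀ x, φ x = φ₀ x ∨ φ x = φ₁ x) (n : ℕ) (x : Zc R' n) :
    pull φ₀ φ₁ θ φ hφ n x.1 ∈ Zc R n := by
  rw [LinearMap.mem_ker, pull_dd, LinearMap.mem_ker.1 x.2]
  funext a
  exact (congrArg (θ.app (img a)).hom (map_zero _)).trans (map_zero _)

theorem cls_pull_eq (n : ℕ) (x : Zc R' n) :
    cls R n ⟨_, pull_mem φ₀ φ₁ θ φ₁ (fun _ => Or.inr rfl) n x⟩ =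
      cls R n ⟨_, pull_mem φ₀ φ₁ θ φ₀ (fun _ => Or.inl rfl) n x⟩ := by
  cases n with
  | zero => exact congrArg _ (Subtype.ext (pull_eq_zero_deg φ₀ φ₁ θ x.1 x.2))
  | succ n =>
    rw [← sub_eq_zero, ← map_sub, cls_succ_eq_zero_iff]
    exact ⟨_, (pull_sub_eq φ₀ φ₁ θ n x.1 x.2).symm⟩

end Pull

section Elem

variable {κ : Type u} [DecidableEq κ] (P : Sys A κ) (k : κ)

/-- Adding the point `k`. -/
def insF : Finset κ ⥤ Finset κ := Monotone.functor (f := fun S => insert k S) fun _ _ h => Finset.insert_subset_insert k h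

/-- The elementary system. -/
noncomputable abbrev Pk : Sys A κ := insF k ⋙ P

theorem insert_hull_le (S : Finset κ) : insert k ((hull id fun _ => k).obj S) ⊆ insert k S := by
  refine Finset.insert_subset (Finset.mem_insert_self k S) (Finset.union_subset ?_ ?_)
  · rw [Finset.image_id]; exact Finset.subset_insert k S
  · exact fun x hx => by
      obtain ⟨_, _, rfl⟩ := Finset.mem_image.mp hx
      exact Finset.mem_insert_self _ _

/-- The contraction of the elementary system. -/
noncomputable def θk : hull id (fun _ => k) ⋙ Pk P k ⟶ Pk P k where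
  app S := P.map (homOfLE (insert_hull_le k S))
  naturality S T g := by
    show P.map _ ≫ P.map _ = P.map _ ≫ P.map _
    rw [← P.map_comp, ← P.map_comp]
    rfl

theorem θk_pull_id (n : ℕ) (x : Coch (Pk P k) n) :
    pull id (fun _ => k) (θk P k) id (fun _ => Or.inl rfl) n x = x := by
  funext a
  exact (map_map P _ _ (homOfLE subset_rfl) (x a)).trans (map_self P _ (x a))

/-- An element over `{k}` as a zero-cochain. -/
noncomputable def constCoch : (P.obj (insert k ∅) : Type u) →ₗ[A] Coch (Pk P k) 0 :=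
  LinearMap.pi fun a => (P.map (homOfLE (Finset.insert_subset_insert k (Finset.empty_subset (img a))))).hom

theorem constCoch_mem (m : (P.obj (insert k ∅) : Type u)) : constCoch P k m ∈ Zc (Pk P k) 0 := by
  rw [LinearMap.mem_ker]
  funext a
  rw [dd_apply, Fin.sum_univ_two]
  simp only [Fin.val_zero, pow_zero, one_smul, Fin.val_one, pow_one, neg_smul]
  refine (sub_eq_add_neg _ _).symm.trans (sub_eq_zero.mpr ?_)
  show (P.map _ ≫ P.map _).hom m = (P.map _ ≫ P.map _).hom m
  rw [← P.map_comp, ← P.map_comp]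
  rfl

theorem insert_img_le {n : ℕ} : insert k (img (fun _ : Fin n => k)) ⊆ insert k ∅ := by
  intro x hx
  rcases Finset.mem_insert.mp hx with rfl | hx
  · exact Finset.mem_insert_self _ _
  · obtain ⟨_, -, rfl⟩ := Finset.mem_image.mp hx
    exact Finset.mem_insert_self _ _

/-- The value at a constant tuple. -/
noncomputable def evk (n : ℕ) : Coch (Pk P k) n →ₗ[A] (P.obj (insert k ∅) : Type u) :=
  (P.map (homOfLE (insert_img_le k))).hom ∘ₗ LinearMap.proj (fun _ : Fin (n + 1) => k)

theorem evk_const (m : (P.obj (insert k ∅) : Type u)) : evk P k 0 (constCoch P k m) = m := by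
  exact (map_map P _ _ (homOfLE subset_rfl) m).trans (map_self P _ m)

theorem pull_const (n : ℕ) (x : Coch (Pk P k) n) (a : Fin (n + 1) → κ) :
    pull id (fun _ => k) (θk P k) (fun _ => k) (fun _ => Or.inr rfl) n x a =
      (P.map (homOfLE (Finset.insert_subset_insert k (Finset.empty_subset (img a))))).hom (evk P k n x) := by
  show (P.map _ ≫ P.map _).hom (x (fun _ => k)) = (P.map _ ≫ P.map _).hom (x (fun _ => k))
  rw [← P.map_comp, ← P.map_comp]
  rfl

theorem const_evk (s : Zc (Pk P k) 0) : constCoch P k (evk P k 0 s.1) = s.1 := by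
  refine Eq.trans (funext fun a => (pull_const P k 0 s.1 a).symm) ?_
  exact (pull_eq_zero_deg id (fun _ => k) (θk P k) s.1 s.2).trans (θk_pull_id P k 0 s.1)

/-- Zero-cocycles of the elementary system. -/
noncomputable def constZ : (P.obj (insert k ∅) : Type u) ≃ₗ[A] Zc (Pk P k) 0 :=
  { LinearMap.codRestrict _ (constCoch P k) (constCoch_mem P k) with
    invFun := fun s => evk P k 0 s.1
    left_inv := evk_const P k
    right_inv := fun s => Subtype.ext (const_evk P k s) }

theorem alt_sum (N : ℕ) {M : Type*} [AddCommGroup M] (y : M) :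
    ∑ i : Fin N, ((-1 : ℤ) ^ (i : ℕ)) • y = (if Even N then 0 else (1 : ℤ)) • y := by
  rw [← Finset.sum_smul, Fin.sum_univ_eq_sum_range (fun i => (-1 : ℤ) ^ i), neg_one_geom_sum]

/-- **The elementary systems have no higher cohomology.** -/
theorem Hc_Pk_eq_zero (n : ℕ) (h : Hc (Pk P k) (n + 1)) : h = 0 := by
  obtain ⟨x, rfl⟩ := cls_surjective _ _ h
  have e := cls_pull_eq id (fun _ => k) (θk P k) (n + 1) x
  rw [show (⟨_, pull_mem id (fun _ => k) (θk P k) id (fun _ => Or.inl rfl) (n + 1) x⟩ : Zc (Pk P k) (n + 1)) = x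
    from Subtype.ext (θk_pull_id P k (n + 1) x.1)] at e
  rw [← e, cls_succ_eq_zero_iff]
  let y := evk P k (n + 1) x.1
  by_cases hn : Even n
  · refine ⟨0, ?_⟩
    rw [map_zero]
    funext a
    have h0 := congrArg (evk P k (n + 2)) (show dd (Pk P k) (n + 1) x.1 = 0 from x.2)
    have h1 : evk P k (n + 2) (dd (Pk P k) (n + 1) x.1) =
        ∑ i : Fin (n + 3), ((-1 : ℤ) ^ (i : ℕ)) • y := by
      show (P.map _).hom (dd (Pk P k) (n + 1) x.1 _) = _
      rw [dd_apply, map_sum]
      refine Finset.sum_congr rfl fun i _ => ?_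
      rw [map_zsmul]
      refine congrArg _ ?_
      show (P.map _ ≫ P.map _).hom (x.1 (fun _ => k)) = (P.map _).hom (x.1 (fun _ => k))
      rw [← P.map_comp]
      rfl
    rw [h1, map_zero, alt_sum, if_neg (Nat.not_even_iff_odd.mpr (hn.add_odd (by decide))), one_smul] at h0
    refine Eq.trans ?_ (pull_const P k (n + 1) x.1 a).symm
    exact ((congrArg _ h0).trans (map_zero _)).symm
  · refine ⟨fun a => (P.map (homOfLE (Finset.insert_subset_insert k (Finset.empty_subset (img a))))).hom y, ?_⟩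
    funext a
    refine Eq.trans ?_ (pull_const P k (n + 1) x.1 a).symm
    rw [dd_apply]
    let z := (P.map (homOfLE (Finset.insert_subset_insert k (Finset.empty_subset (img a))))).hom y
    refine Eq.trans (Finset.sum_congr rfl fun i _ => congrArg _ ?_) ((alt_sum (n + 2) z).trans ?_)
    · show (P.map _ ≫ P.map _).hom y = _
      rw [← P.map_comp]
      rfl
    · rw [if_neg, one_smul]
      exact fun h => hn (by simpa [Nat.even_add] using h)

variable {ι : Type u} [DecidableEq ι] (Q : Sys A ι)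

/-- Replacing the second coordinate by `k`. -/
def toK : ι × κ → ι × κ := fun p => (p.1, k)

theorem hull_toK_fst (S : Finset (ι × κ)) : ((hull id (toK k)).obj S).image Prod.fst ⊆ S.image Prod.fst := by
  intro x hx
  obtain ⟨p, hp, rfl⟩ := Finset.mem_image.mp hx
  rcases Finset.mem_union.mp hp with h | h
  · obtain ⟨q, hq, rfl⟩ := Finset.mem_image.mp h
    exact Finset.mem_image_of_mem _ hq
  · obtain ⟨q, hq, rfl⟩ := Finset.mem_image.mp h
    exact Finset.mem_image.mpr ⟨q, hq, rfl⟩

theorem hull_toK_snd (S : Finset (ι × κ)) :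
    insert k (((hull id (toK k)).obj S).image Prod.snd) ⊆ insert k (S.image Prod.snd) := by
  refine Finset.insert_subset (Finset.mem_insert_self _ _) fun x hx => ?_
  obtain ⟨p, hp, rfl⟩ := Finset.mem_image.mp hx
  rcases Finset.mem_union.mp hp with h | h
  · obtain ⟨q, hq, rfl⟩ := Finset.mem_image.mp h
    exact Finset.mem_insert_of_mem (Finset.mem_image_of_mem _ hq)
  · obtain ⟨q, hq, rfl⟩ := Finset.mem_image.mp h
    exact Finset.mem_insert_self _ _

/-- The contraction of the diagonal system of an elementary system. -/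
noncomputable def θD : hull id (toK k) ⋙ D Q (Pk P k) ⟶ D Q (Pk P k) where
  app S := ModuleCat.ofHom (TensorProduct.map (Q.map (homOfLE (hull_toK_fst k S))).hom
    (P.map (homOfLE (hull_toK_snd k S))).hom)
  naturality S T g := ModuleCat.hom_ext (TensorProduct.ext' fun x y => by
    show (Q.map _).hom ((Q.map _).hom x) ⊗ₜ (P.map _).hom ((P.map _).hom y) =
      (Q.map _).hom ((Q.map _).hom x) ⊗ₜ (P.map _).hom ((P.map _).hom y)
    rw [← ModuleCat.comp_apply, ← ModuleCat.comp_apply, ← ModuleCat.comp_apply, ← ModuleCat.comp_apply,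
      ← Q.map_comp, ← Q.map_comp, ← P.map_comp, ← P.map_comp]
    rfl)

theorem θD_pull_id (n : ℕ) (x : Coch (D Q (Pk P k)) n) :
    pull id (toK k) (θD P k Q) id (fun _ => Or.inl rfl) n x = x := by
  funext a
  refine LinearMap.congr_fun (?_ : ((θD P k Q).app (img a)).hom ∘ₗ ((D Q (Pk P k)).map
    (homOfLE (img_le_hull id (toK k) fun j => ⟨j, Or.inl rfl⟩ : img (id ∘ a) ⊆ (hull id (toK k)).obj (img a)))).hom
      = LinearMap.id) (x a)
  refine TensorProduct.ext' fun p q => ?_
  show (Q.map _).hom ((Q.map _).hom p) ⊗ₜ (P.map _).hom ((P.map _).hom q) = p ⊗ₜ q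
  exact congrArg₂ (fun u v => u ⊗ₜ[A] v) ((map_map Q _ _ (homOfLE subset_rfl) p).trans (map_self Q _ p))
    ((map_map P _ _ (homOfLE subset_rfl) q).trans (map_self P _ q))

end Elem

end KunnethDiagLib
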