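import Groth.Agent.KunnethDiagLib.Elem

/-! The long exact sequence of a short exact sequence of systems. -/

set_option autoImplicit false

universe u

open CategoryTheory CategoryTheory.Limits

namespace KunnethDiagLib

variable {A : Type u} [CommRing A] {τ : Type u} [DecidableEq τ] {R₁ R₂ R₃ : Sys A τ}

theorem img_nonempty {n : ℕ} (a : Fin (n + 1) → τ) : (img a).Nonempty :=
  ⟨a 0, Finset.mem_image_of_mem _ (Finset.mem_univ 0)⟩

/-- Short exactness at the nonempty subsets. -/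
structure IsSES (f : R₁ ⟶ R₂) (g : R₂ ⟶ R₃) : Prop where
  inj : ∀ S : Finset τ, S.Nonempty → Function.Injective (f.app S).hom
  surj : ∀ S : Finset τ, S.Nonempty → Function.Surjective (g.app S).hom
  exact : ∀ S : Finset τ, S.Nonempty → Function.Exact (f.app S).hom (g.app S).hom

variable {f : R₁ ⟶ R₂} {g : R₂ ⟶ R₃} (h : IsSES f g)
include h

theorem IsSES.coch_inj (n : ℕ) : Function.Injective (cochMap f n) := fun x y e =>
  funext fun a => h.inj _ (img_nonempty a) (congrFun e a)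

theorem IsSES.coch_surj (n : ℕ) : Function.Surjective (cochMap g n) := fun y => by
  choose x hx using fun a : Fin (n + 1) → τ => h.surj _ (img_nonempty a) (y a)
  exact ⟨x, funext hx⟩

theorem IsSES.coch_comp (n : ℕ) (x : Coch R₁ n) : cochMap g n (cochMap f n x) = 0 :=
  funext fun a => (h.exact _ (img_nonempty a) _).mpr ⟨x a, rfl⟩

theorem IsSES.coch_exact (n : ℕ) (y : Coch R₂ n) (hy : cochMap g n y = 0) : ∃ x, cochMap f n x = y := by
  choose x hx using fun a : Fin (n + 1) → τ => (h.exact _ (img_nonempty a) (y a)).mp (congrFun hy a)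
  exact ⟨x, funext hx⟩

theorem IsSES.SMap_comp (n : ℕ) (x : Hc R₁ n) : SMap g n (SMap f n x) = 0 := by
  obtain ⟨x, rfl⟩ := cls_surjective _ _ x
  rw [HMap_cls, HMap_cls]
  exact (congrArg _ (Subtype.ext (h.coch_comp n x.1))).trans (map_zero _)

theorem IsSES.SMap_zero_inj : Function.Injective (SMap f 0) := by
  rw [injective_iff_map_eq_zero]
  intro x hx
  obtain ⟨x, rfl⟩ := cls_surjective _ _ x
  rw [HMap_cls, cls_zero_iff_zero] at hx
  refine (cls_zero_iff_zero _ _).mpr (Subtype.ext (h.coch_inj 0 ?_))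
  exact (congrArg Subtype.val hx).trans (map_zero _).symm

theorem IsSES.exact₂ (n : ℕ) (y : Hc R₂ n) (hy : SMap g n y = 0) : ∃ x, SMap f n x = y := by
  obtain ⟨y, rfl⟩ := cls_surjective _ _ y
  rw [HMap_cls] at hy
  cases n with
  | zero =>
    obtain ⟨x, hx⟩ := h.coch_exact 0 y.1 (congrArg Subtype.val ((cls_zero_iff_zero _ _).mp hy))
    have hx0 : x ∈ Zc R₁ 0 := h.coch_inj 1 (by
      rw [map_zero, ← cochMap_dd, hx]
      exact y.2)
    exact ⟨cls _ 0 ⟨x, hx0⟩, congrArg _ (Subtype.ext hx)⟩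
  | succ n =>
    obtain ⟨w, hw⟩ := (cls_succ_eq_zero_iff _ _ _).mp hy
    obtain ⟨v, rfl⟩ := h.coch_surj n w
    rw [cochMap_dd] at hw
    obtain ⟨x, hx⟩ := h.coch_exact (n + 1) (y.1 - dd R₂ n v) (by
      rw [map_sub, sub_eq_zero]
      exact hw.symm)
    have hx0 : x ∈ Zc R₁ (n + 1) := h.coch_inj (n + 2) (by
      rw [map_zero, ← cochMap_dd, hx, map_sub, dd_dd, sub_zero]
      exact y.2)
    refine ⟨cls _ (n + 1) ⟨x, hx0⟩, ?_⟩
    rw [HMap_cls, ← sub_eq_zero, ← map_sub, cls_succ_eq_zero_iff]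
    refine ⟨-v, ?_⟩
    show dd R₂ n (-v) = cochMap f (n + 1) x - y.1
    rw [hx, map_neg]
    abel

omit h in
variable (f g) in
/-- Cochains whose image is a cocycle. -/
noncomputable def LZ (m : ℕ) : Submodule A (Coch R₂ m) := (Zc R₃ m).comap (cochMap g m)

theorem IsSES.exists_lift (m : ℕ) (v : LZ g m) :
    ∃ x : Zc R₁ (m + 1), cochMap f (m + 1) x.1 = dd R₂ m v.1 := by
  obtain ⟨x, hx⟩ := h.coch_exact (m + 1) (dd R₂ m v.1) (by
    rw [← cochMap_dd]
    exact v.2)
  exact ⟨⟨x, h.coch_inj (m + 2) (by rw [map_zero, ← cochMap_dd, hx]; exact dd_dd R₂ m _)⟩, hx⟩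

/-- The connecting map on lifts. -/
noncomputable def IsSES.preConn (m : ℕ) : LZ g m →ₗ[A] Hc R₁ (m + 1) where
  toFun v := cls _ (m + 1) (h.exists_lift m v).choose
  map_add' v w := by
    rw [← map_add]
    refine congrArg _ (Subtype.ext (h.coch_inj (m + 1) ?_))
    rw [(h.exists_lift m (v + w)).choose_spec, Submodule.coe_add, Submodule.coe_add, map_add, map_add,
      (h.exists_lift m v).choose_spec, (h.exists_lift m w).choose_spec]
  map_smul' c v := by
    rw [RingHom.id_apply, ← map_smul]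
    refine congrArg _ (Subtype.ext (h.coch_inj (m + 1) ?_))
    rw [(h.exists_lift m (c • v)).choose_spec, Submodule.coe_smul, Submodule.coe_smul, map_smul, map_smul,
      (h.exists_lift m v).choose_spec]

theorem IsSES.preConn_apply (m : ℕ) (v : LZ g m) (x : Zc R₁ (m + 1))
    (hx : cochMap f (m + 1) x.1 = dd R₂ m v.1) : h.preConn m v = cls _ (m + 1) x :=
  congrArg (cls R₁ (m + 1)) (Subtype.ext (h.coch_inj (m + 1) ((h.exists_lift m v).choose_spec.trans hx.symm)))

omit h in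
variable (g) in
/-- The class below a lift. -/
noncomputable def below (m : ℕ) : LZ g m →ₗ[A] Hc R₃ m :=
  cls R₃ m ∘ₗ LinearMap.codRestrict _ (cochMap g m ∘ₗ (LZ g m).subtype) fun v => v.2

theorem IsSES.below_surjective (m : ℕ) : Function.Surjective (below g m) := fun z => by
  obtain ⟨z, rfl⟩ := cls_surjective _ _ z
  obtain ⟨v, hv⟩ := h.coch_surj m z.1
  exact ⟨⟨v, show cochMap g m v ∈ Zc R₃ m from hv.symm ▸ z.2⟩, congrArg (cls R₃ m) (Subtype.ext hv)⟩

theorem IsSES.ker_below_le (m : ℕ) : LinearMap.ker (below g m) ≤ LinearMap.ker (h.preConn m) := by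
  intro v hv
  have hv' : cls R₃ m ⟨cochMap g m v.1, v.2⟩ = 0 := hv
  rw [LinearMap.mem_ker]
  cases m with
  | zero =>
    obtain ⟨x, hx⟩ := h.coch_exact 0 v.1 (congrArg Subtype.val ((cls_zero_iff_zero _ _).mp hv'))
    rw [h.preConn_apply 0 v ⟨dd R₁ 0 x, dd_dd R₁ 0 x⟩ (by rw [← cochMap_dd, hx]), cls_succ_eq_zero_iff]
    exact ⟨x, rfl⟩
  | succ m =>
    obtain ⟨w, hw⟩ := (cls_succ_eq_zero_iff _ _ _).mp hv'
    obtain ⟨e, rfl⟩ := h.coch_surj m w
    obtain ⟨x, hx⟩ := h.coch_exact (m + 1) (v.1 - dd R₂ m e) (by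
      rw [map_sub, ← cochMap_dd, sub_eq_zero]
      exact hw.symm)
    rw [h.preConn_apply (m + 1) v ⟨dd R₁ (m + 1) x, dd_dd R₁ (m + 1) x⟩
      (by rw [← cochMap_dd, hx, map_sub, dd_dd, sub_zero]), cls_succ_eq_zero_iff]
    exact ⟨x, rfl⟩

/-- The connecting map. -/
noncomputable def IsSES.conn (m : ℕ) : Hc R₃ m →ₗ[A] Hc R₁ (m + 1) :=
  ((LinearMap.ker (below g m)).liftQ (h.preConn m) (h.ker_below_le m)) ∘ₗ
    ((below g m).quotKerEquivOfSurjective (h.below_surjective m)).symm.toLinearMap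

theorem IsSES.conn_below (m : ℕ) (v : LZ g m) : h.conn m (below g m v) = h.preConn m v := by
  have e : ((below g m).quotKerEquivOfSurjective (h.below_surjective m)).symm (below g m v) =
      Submodule.Quotient.mk v := (LinearEquiv.symm_apply_eq _).mpr rfl
  show ((LinearMap.ker (below g m)).liftQ (h.preConn m) (h.ker_below_le m)) (((below g m).quotKerEquivOfSurjective
    (h.below_surjective m)).symm (below g m v)) = _
  rw [e]
  rfl

theorem IsSES.range_conn (m : ℕ) : LinearMap.range (h.conn m) = LinearMap.ker (SMap f (m + 1)) := by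
  apply le_antisymm
  · rintro _ ⟨z, rfl⟩
    obtain ⟨v, rfl⟩ := h.below_surjective m z
    obtain ⟨x, hx⟩ := h.exists_lift m v
    rw [LinearMap.mem_ker, h.conn_below, h.preConn_apply m v x hx, HMap_cls, cls_succ_eq_zero_iff]
    exact ⟨v.1, hx.symm⟩
  · intro x hx
    obtain ⟨x, rfl⟩ := cls_surjective _ _ x
    rw [LinearMap.mem_ker, HMap_cls, cls_succ_eq_zero_iff] at hx
    obtain ⟨v, hv⟩ := hx
    have hv' : v ∈ LZ g m := by
      show cochMap g m v ∈ Zc R₃ m
      rw [LinearMap.mem_ker, cochMap_dd, hv]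
      exact h.coch_comp (m + 1) x.1
    exact ⟨below g m ⟨v, hv'⟩, (h.conn_below m _).trans (h.preConn_apply m _ x hv.symm)⟩

theorem IsSES.ker_conn (m : ℕ) : LinearMap.ker (h.conn m) = LinearMap.range (SMap g m) := by
  apply le_antisymm
  · intro z hz
    obtain ⟨v, rfl⟩ := h.below_surjective m z
    obtain ⟨x, hx⟩ := h.exists_lift m v
    rw [LinearMap.mem_ker, h.conn_below, h.preConn_apply m v x hx, cls_succ_eq_zero_iff] at hz
    obtain ⟨w, hw⟩ := hz
    have hv' : v.1 - cochMap f m w ∈ Zc R₂ m := by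
      rw [LinearMap.mem_ker, map_sub, cochMap_dd, hw, hx, sub_self]
    refine ⟨cls _ m ⟨_, hv'⟩, congrArg _ (Subtype.ext ?_)⟩
    show cochMap g m (v.1 - cochMap f m w) = cochMap g m v.1
    rw [map_sub, h.coch_comp, sub_zero]
  · rintro _ ⟨y, rfl⟩
    obtain ⟨y, rfl⟩ := cls_surjective _ _ y
    have hy : y.1 ∈ LZ g m := map_mem (cochMap g) (cochMap_dd g) m y
    rw [LinearMap.mem_ker]
    refine (h.conn_below m ⟨y.1, hy⟩).trans ((h.preConn_apply m _ 0 ?_).trans (map_zero _))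
    rw [Submodule.coe_zero, map_zero]
    exact y.2.symm

end KunnethDiagLib
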