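import Groth.Agent.KunnethDiagLib.Base
import Groth.Agent.KunnethDiagLib.Seq

/-! The Künneth decomposition of the diagonal complex. -/

set_option autoImplicit false
set_option maxHeartbeats 1000000

universe u

open CategoryTheory CategoryTheory.Limits TensorProduct

namespace KunnethDiagLib

variable {A : Type u} [CommRing A]

section Sum

variable {τ : Type u} [DecidableEq τ] {R : Sys A τ} {J : Type u} [Fintype J] {R' : J → Sys A τ}
  (a : ∀ j, R' j ⟶ R) (b : ∀ j, R ⟶ R' j)
  (hab : ∀ S (x : R.obj S), ∑ j, ((a j).app S).hom (((b j).app S).hom x) = x)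

include hab in
theorem sum_coch (n : ℕ) (x : Coch R n) : ∑ j, cochMap (a j) n (cochMap (b j) n x) = x := by
  funext c
  rw [Finset.sum_apply]
  exact hab _ (x c)

include hab in
theorem sum_SMap (n : ℕ) (h : Hc R n) : ∑ j, SMap (a j) n (SMap (b j) n h) = h := by
  obtain ⟨x, rfl⟩ := cls_surjective _ _ h
  simp only [HMap_cls]
  rw [← map_sum]
  refine congrArg _ (Subtype.ext ?_)
  rw [Submodule.coe_sum]
  exact sum_coch a b hab n x.1

include hab in
theorem sum_ΓMap (s : Zc R 0) : ∑ j, ΓMap (a j) (ΓMap (b j) s) = s := by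
  refine Subtype.ext ?_
  rw [Submodule.coe_sum]
  exact sum_coch a b hab 0 s.1

end Sum

variable {ι κ : Type u} [DecidableEq ι] [DecidableEq κ] (Q : Sys A ι) (P : Sys A κ)

/-- The product of the elementary systems. -/
noncomputable def Esys : Sys A κ where
  obj S := ModuleCat.of A (∀ j : κ, (P.obj (insert j S) : Type u))
  map {S T} g := ModuleCat.ofHom (LinearMap.pi fun j => (P.map ((insF j).map g)).hom ∘ₗ LinearMap.proj j)
  map_id S := ModuleCat.hom_ext (LinearMap.ext fun x => funext fun j => map_self P _ (x j))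
  map_comp {S T V} g g' := ModuleCat.hom_ext (LinearMap.ext fun x => funext fun j =>
    (map_map P ((insF j).map g) ((insF j).map g') ((insF j).map (g ≫ g')) (x j)).symm)

/-- Projection to an elementary system. -/
noncomputable def prE (j : κ) : Esys P ⟶ Pk P j where
  app S := ModuleCat.ofHom (LinearMap.proj j)
  naturality {S T} g := rfl

/-- Inclusion of an elementary system. -/
noncomputable def inE (j : κ) : Pk P j ⟶ Esys P where
  app S := ModuleCat.ofHom (LinearMap.single A (fun j : κ => (P.obj (insert j S) : Type u)) j)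
  naturality {S T} g := ModuleCat.hom_ext (LinearMap.ext fun x => funext fun i => by
    show (Pi.single j ((P.map ((insF j).map g)).hom x) : ∀ i, (P.obj (insert i T) : Type u)) i =
      (P.map ((insF i).map g)).hom ((Pi.single j x : ∀ i, (P.obj (insert i S) : Type u)) i)
    by_cases hij : i = j
    · subst hij
      rw [Pi.single_eq_same, Pi.single_eq_same]
    · rw [Pi.single_eq_of_ne hij, Pi.single_eq_of_ne hij]
      exact (map_zero _).symm)

/-- The embedding. -/
noncomputable def embE : P ⟶ Esys P where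
  app S := ModuleCat.ofHom (LinearMap.pi fun j => (P.map (homOfLE (Finset.subset_insert j S))).hom)
  naturality {S T} g := ModuleCat.hom_ext (LinearMap.ext fun x => funext fun j => map_map' P _ _ _ _ x)

theorem range_embE_le {S T : Finset κ} (g : S ⟶ T) :
    LinearMap.range ((embE P).app S).hom ≤
      (LinearMap.range ((embE P).app T).hom).comap ((Esys P).map g).hom := by
  rintro _ ⟨x, rfl⟩
  exact ⟨(P.map g).hom x, congr($((embE P).naturality g) x)⟩

/-- The cokernel system. -/
noncomputable def Zsys : Sys A κ where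
  obj S := ModuleCat.of A (((Esys P).obj S : Type u) ⧸ LinearMap.range ((embE P).app S).hom)
  map {S T} g := ModuleCat.ofHom (Submodule.mapQ _ _ ((Esys P).map g).hom (range_embE_le P g))
  map_id S := ModuleCat.hom_ext (LinearMap.ext fun x => by
    obtain ⟨x, rfl⟩ := Submodule.mkQ_surjective _ x
    exact congrArg (Submodule.mkQ _) (map_self (Esys P) _ x))
  map_comp {S T V} g g' := ModuleCat.hom_ext (LinearMap.ext fun x => by
    obtain ⟨x, rfl⟩ := Submodule.mkQ_surjective _ x
    exact congrArg (Submodule.mkQ _) (map_map (Esys P) g g' (g ≫ g') x).symm)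

/-- The projection to the cokernel. -/
noncomputable def qE : Esys P ⟶ Zsys P where
  app S := ModuleCat.ofHom (Submodule.mkQ _)
  naturality {S T} g := rfl

theorem sesP : IsSES (embE P) (qE P) where
  inj S hS := fun x y e => by
    obtain ⟨k, hk⟩ := hS
    have hle : insert k S ⊆ S := Finset.insert_subset hk subset_rfl
    have h := congrArg (P.map (homOfLE hle)).hom (congrFun e k)
    exact ((map_map P _ _ (homOfLE subset_rfl) x).trans (map_self P _ x)).symm.trans
      (h.trans ((map_map P _ _ (homOfLE subset_rfl) y).trans (map_self P _ y)))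
  surj _ _ := Submodule.mkQ_surjective _
  exact S _ := LinearMap.exact_map_mkQ_range ((embE P).app S).hom

/-- The quotient of a split module by the image of a kernel. -/
theorem nonempty_quot_equiv {X T Y : Type u} [AddCommGroup X] [Module A X] [AddCommGroup T] [Module A T]
    [AddCommGroup Y] [Module A Y] (ψ : X →ₗ[A] T) (hψ : Function.Injective ψ) (W : Submodule A T)
    (hW : IsCompl (LinearMap.range ψ) W) (π : X →ₗ[A] Y) (hπ : Function.Surjective π) (N : Submodule A T)
    (hN : N = (LinearMap.ker π).map ψ) : Nonempty ((T ⧸ N) ≃ₗ[A] Y × W) := by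
  let e := (Submodule.prodEquivOfIsCompl _ _ hW).symm
  let Φ : T →ₗ[A] Y × W :=
    ((π ∘ₗ (LinearEquiv.ofInjective _ hψ).symm.toLinearMap).prodMap LinearMap.id) ∘ₗ e.toLinearMap
  have hval : ∀ (x : X) (w : W), Φ (ψ x + w) = (π x, w) := fun x w => by
    have : e (ψ x + w) = (LinearEquiv.ofInjective _ hψ x, w) := by
      apply e.symm.injective
      rw [e.symm_apply_apply]
      rfl
    show ((π ∘ₗ (LinearEquiv.ofInjective _ hψ).symm.toLinearMap).prodMap LinearMap.id) (e (ψ x + w)) = _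
    rw [this]
    refine Prod.ext ?_ rfl
    show π ((LinearEquiv.ofInjective _ hψ).symm (LinearEquiv.ofInjective _ hψ x)) = π x
    rw [LinearEquiv.symm_apply_apply]
  have hker : LinearMap.ker Φ = N := by
    ext t
    obtain ⟨_, ⟨x, rfl⟩, w, hw, rfl⟩ := Submodule.mem_sup.mp (hW.sup_eq_top.ge (Submodule.mem_top (x := t)))
    rw [hN, LinearMap.mem_ker, hval x ⟨w, hw⟩, Prod.ext_iff]
    constructor
    · rintro ⟨h1, h2⟩
      exact ⟨x, h1, by rw [show w = 0 from congrArg Subtype.val h2, add_zero]⟩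
    · rintro ⟨x', hx', e'⟩
      have hx : ψ (x' - x) = w := by rw [map_sub, e', add_sub_cancel_left]
      have hw0 : w = 0 := Submodule.disjoint_def.mp hW.disjoint w ⟨_, hx⟩ hw
      rw [hw0, add_zero] at e'
      exact ⟨hψ e' ▸ hx', Subtype.ext hw0⟩
  have hΦ : Function.Surjective Φ := fun z => by
    obtain ⟨x, hx⟩ := hπ z.1
    exact ⟨ψ x + z.2, by rw [hval, hx]⟩
  exact ⟨(Submodule.quotEquivOfEq _ _ hker.symm).trans (Φ.quotKerEquivOfSurjective hΦ)⟩

/-- Products over `Fin (m + 1)`. -/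
noncomputable def piFinSuccEquiv {m : ℕ} {M : Fin (m + 1) → Type u} [∀ q, AddCommMonoid (M q)] [∀ q, Module A (M q)]
    {N : Fin m → Type u} [∀ q, AddCommMonoid (N q)] [∀ q, Module A (N q)] {X : Type u} [AddCommMonoid X] [Module A X]
    (e0 : X ≃ₗ[A] M 0) (e : ∀ q : Fin m, N q ≃ₗ[A] M q.succ) : (X × ∀ q, N q) ≃ₗ[A] ∀ q, M q where
  toFun z := Fin.cases (motive := M) (e0 z.1) (fun q => e q (z.2 q))
  invFun f := (e0.symm (f 0), fun q => (e q).symm (f q.succ))
  left_inv z := by
    refine Prod.ext ?_ (funext fun q => ?_)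
    · exact e0.symm_apply_apply z.1
    · exact (e q).symm_apply_apply (z.2 q)
  right_inv f := funext fun q => by
    refine Fin.cases ?_ (fun q' => ?_) q
    · exact e0.apply_symm_apply (f 0)
    · exact (e q').apply_symm_apply (f q'.succ)
  map_add' z z' := funext fun q => by
    refine Fin.cases ?_ (fun q' => ?_) q
    · exact map_add e0 z.1 z'.1
    · exact map_add (e q') (z.2 q') (z'.2 q')
  map_smul' r z := funext fun q => by
    refine Fin.cases ?_ (fun q' => ?_) q
    · exact map_smul e0 r z.1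
    · exact map_smul (e q') r (z.2 q')

variable [Fintype κ]

theorem sum_E (S : Finset κ) (x : (Esys P).obj S) :
    ∑ j, ((inE P j).app S).hom (((prE P j).app S).hom x) = x :=
  Finset.univ_sum_single (fun j => (x : ∀ j, (P.obj (insert j S) : Type u)) j)

theorem sum_DE (S : Finset (ι × κ)) (x : (D Q (Esys P)).obj S) :
    ∑ j, ((DMap Q (inE P j)).app S).hom (((DMap Q (prE P j)).app S).hom x) = x := by
  induction x using TensorProduct.induction_on with
  | zero => exact Finset.sum_eq_zero fun j _ => (congrArg _ (map_zero _)).trans (map_zero _)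
  | add y z hy hz =>
    refine Eq.trans ?_ ((Finset.sum_add_distrib).trans (congrArg₂ (· + ·) hy hz))
    exact Finset.sum_congr rfl fun j _ => (congrArg _ (map_add _ y z)).trans (map_add _ _ _)
  | tmul p q =>
    show ∑ j, p ⊗ₜ[A] ((inE P j).app _).hom (((prE P j).app _).hom q) = p ⊗ₜ q
    rw [← TensorProduct.tmul_sum, sum_E]

theorem Hc_E_eq_zero (n : ℕ) (h : Hc (Esys P) (n + 1)) : h = 0 := by
  rw [← sum_SMap (inE P) (prE P) (sum_E P) (n + 1) h]
  exact Finset.sum_eq_zero fun j _ => by rw [Hc_Pk_eq_zero P j n (SMap (prE P j) (n + 1) h), map_zero]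

variable [Finite ι] (hQ : ∀ S : Finset ι, S.Nonempty → Module.Flat A (Q.obj S))
  (hcok : ∀ n, Module.Flat A (Coch Q n ⧸ Bd Q n)) (hH : ∀ n, Module.Flat A (Hc Q n))

include hQ in
omit [DecidableEq κ] [Fintype κ] in
theorem flat_coch (n : ℕ) : Module.Flat A (Coch Q n) := by
  classical
  have := fun a : Fin (n + 1) → ι => hQ (img a) (img_nonempty a)
  have : Fintype (Fin (n + 1) → ι) := Fintype.ofFinite _
  exact Module.Flat.of_linearEquiv (DFinsupp.linearEquivFunOnFintype (R := A)
    (M := fun a : Fin (n + 1) → ι => (Q.obj (img a) : Type u))).symm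

include hQ in
omit [Fintype κ] [Finite ι] in
theorem sesD : IsSES (DMap Q (embE P)) (DMap Q (qE P)) := by
  have hflat : ∀ S : Finset (ι × κ), S.Nonempty → Module.Flat A (Q.obj (S.image Prod.fst)) :=
    fun S hS => hQ _ (hS.image _)
  exact
    { inj := fun S hS => by
        haveI := hflat S hS
        exact Module.Flat.lTensor_preserves_injective_linearMap _ ((sesP P).inj _ (hS.image _))
      surj := fun S hS => LinearMap.lTensor_surjective _ ((sesP P).surj _ (hS.image _))
      exact := fun S hS => lTensor_exact _ ((sesP P).exact _ (hS.image _)) ((sesP P).surj _ (hS.image _)) }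

include hQ hcok

theorem Psi_E_bijective (n : ℕ) : Function.Bijective (Psi Q (Esys P) n) := by
  have hb := fun j => Psi_Pk_bijective Q P j (flat_coch Q hQ) hcok n
  constructor
  · rw [injective_iff_map_eq_zero]
    intro t ht
    have key : ∀ w : Hc Q n ⊗[A] Zc (Esys P) 0, ∑ j, LinearMap.lTensor (Hc Q n) (ΓMap (inE P j))
        (LinearMap.lTensor (Hc Q n) (ΓMap (prE P j)) w) = w := fun w => by
      induction w using TensorProduct.induction_on with
      | zero => simp
      | tmul p s =>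
        simp only [LinearMap.lTensor_tmul]
        rw [← TensorProduct.tmul_sum, sum_ΓMap (inE P) (prE P) (sum_E P)]
      | add y z hy hz => simp only [map_add, Finset.sum_add_distrib, hy, hz]
    have hsum := key t
    rw [← hsum]
    refine Finset.sum_eq_zero fun j _ => ?_
    have h0 : LinearMap.lTensor (Hc Q n) (ΓMap (prE P j)) t = 0 := (hb j).1 (by
      rw [map_zero, ← Psi_natural, ht, map_zero])
    rw [h0, map_zero]
  · intro h
    choose t ht using fun j => (hb j).2 (SMap (DMap Q (prE P j)) n h)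
    refine ⟨∑ j, LinearMap.lTensor (Hc Q n) (ΓMap (inE P j)) (t j), ?_⟩
    rw [map_sum]
    refine (Finset.sum_congr rfl fun j _ => (Psi_natural Q (inE P j) n (t j)).symm).trans ?_
    simp only [ht]
    exact sum_SMap (fun j => DMap Q (inE P j)) (fun j => DMap Q (prE P j)) (sum_DE Q P) n h

include hH

theorem Psi_injective (n : ℕ) : Function.Injective (Psi Q P n) := by
  have hg : Function.Injective (ΓMap (embE P)) := fun x y e =>
    Subtype.ext ((sesP P).coch_inj 0 (congrArg Subtype.val e))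
  haveI := hH n
  intro x y e
  refine Module.Flat.lTensor_preserves_injective_linearMap _ hg ((Psi_E_bijective Q P hQ hcok n).1 ?_)
  rw [← Psi_natural, ← Psi_natural, e]

theorem exists_sub_mem_ker (n : ℕ) (y : Hc (D Q P) n) :
    ∃ t, y - Psi Q P n t ∈ LinearMap.ker (SMap (DMap Q (embE P)) n) := by
  obtain ⟨t, ht⟩ := (Psi_E_bijective Q P hQ hcok n).2 (SMap (DMap Q (embE P)) n y)
  have h0 : LinearMap.lTensor (Hc Q n) (ΓMap (qE P)) t = 0 :=
    Psi_injective Q (Zsys P) hQ hcok hH n (by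
      rw [map_zero, ← Psi_natural, ht, (sesD Q P hQ).SMap_comp])
  have hex : Function.Exact (ΓMap (embE P)) (ΓMap (qE P)) := fun s => by
    refine ⟨fun hs => ?_, ?_⟩
    · obtain ⟨x, hx⟩ := (sesP P).coch_exact 0 s.1 (congrArg Subtype.val hs)
      exact ⟨⟨x, (sesP P).coch_inj 1 (by rw [map_zero, ← cochMap_dd, hx]; exact s.2)⟩, Subtype.ext hx⟩
    · rintro ⟨x, rfl⟩
      exact Subtype.ext ((sesP P).coch_comp 0 x.1)
  haveI := hH n
  obtain ⟨t', rfl⟩ := (Module.Flat.lTensor_exact (Hc Q n) hex _).mp h0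
  exact ⟨t', by rw [LinearMap.mem_ker, map_sub, Psi_natural, ht, sub_self]⟩

/-- The degree of the first factor. -/
def co : ∀ n : ℕ, Fin n → ℕ
  | 0, q => q.elim0
  | n + 1, q => Fin.cases n (fun q' => co n q') q

omit hQ hcok hH [DecidableEq κ] [Fintype κ] [Finite ι] [DecidableEq ι] in
theorem co_eq : ∀ (n : ℕ) (q : Fin n), co n q = n - ((q : ℕ) + 1)
  | 0, q => q.elim0
  | n + 1, q => by
    refine Fin.cases ?_ (fun q' => ?_) q
    · simp [co]
    · simp [co, co_eq n q']

/-- The part of positive second degree. -/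
abbrev Rest (Q : Sys A ι) (n : ℕ) (P : Sys A κ) : Type u :=
  ∀ q : Fin n, Hc Q (co n q) ⊗[A] Hc P ((q : ℕ) + 1)

/-- The decomposition statement. -/
def Dec (Q : Sys A ι) (n : ℕ) (P : Sys A κ) : Prop :=
  ∃ W : Submodule A (Hc (D Q P) n), IsCompl (LinearMap.range (Psi Q P n)) W ∧ Nonempty (W ≃ₗ[A] Rest Q n P)

theorem dec_zero : Dec Q 0 P := by
  haveI : Subsingleton (Rest Q 0 P) := ⟨fun f g => funext fun q => q.elim0⟩
  refine ⟨⊥, ?_, ⟨LinearEquiv.ofBijective (0 : (⊥ : Submodule A (Hc (D Q P) 0)) →ₗ[A] Rest Q 0 P)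
    ⟨fun x y _ => Subsingleton.elim x y, fun z => ⟨0, Subsingleton.elim _ _⟩⟩⟩⟩
  rw [show LinearMap.range (Psi Q P 0) = ⊤ from eq_top_iff.mpr fun y _ => ?_]
  · exact isCompl_top_bot
  obtain ⟨t, ht⟩ := exists_sub_mem_ker Q P hQ hcok hH 0 y
  exact ⟨t, (sub_eq_zero.mp ((sesD Q P hQ).SMap_zero_inj (ht.trans (map_zero _).symm))).symm⟩

theorem isCompl_ker (n : ℕ) :
    IsCompl (LinearMap.range (Psi Q P n)) (LinearMap.ker (SMap (DMap Q (embE P)) n)) := by
  refine ⟨?_, ?_⟩
  · rw [Submodule.disjoint_def]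
    rintro _ ⟨t, rfl⟩ ht
    rw [LinearMap.mem_ker, Psi_natural] at ht
    haveI := hH n
    have := (Psi_E_bijective Q P hQ hcok n).1 (ht.trans (map_zero _).symm)
    rw [Module.Flat.lTensor_preserves_injective_linearMap _
      (show Function.Injective (ΓMap (embE P)) from fun x y e =>
        Subtype.ext ((sesP P).coch_inj 0 (congrArg Subtype.val e))) (this.trans (map_zero _).symm), map_zero]
  · rw [codisjoint_iff, eq_top_iff]
    intro y _
    obtain ⟨t, ht⟩ := exists_sub_mem_ker Q P hQ hcok hH n y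
    exact Submodule.mem_sup.mpr ⟨_, ⟨t, rfl⟩, _, ht, by abel⟩

omit hQ hcok hH in
theorem delta_surjective : Function.Surjective ((sesP P).conn 0 ∘ₗ cls (Zsys P) 0) := fun x => by
  have hx : x ∈ LinearMap.range ((sesP P).conn 0) := by
    rw [(sesP P).range_conn]; exact Hc_E_eq_zero P 0 _
  obtain ⟨z, rfl⟩ := hx
  obtain ⟨z, rfl⟩ := cls_surjective _ _ z
  exact ⟨z, rfl⟩

omit hQ hcok hH in
theorem delta_exact : Function.Exact (ΓMap (qE P)) ((sesP P).conn 0 ∘ₗ cls (Zsys P) 0) := fun s => by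
  refine ⟨fun hs => ?_, ?_⟩
  · have hs' : cls (Zsys P) 0 s ∈ LinearMap.range (SMap (qE P) 0) := (sesP P).ker_conn 0 ▸ hs
    obtain ⟨z, hz⟩ := hs'
    obtain ⟨z, rfl⟩ := cls_surjective _ _ z
    rw [HMap_cls, ← sub_eq_zero, ← map_sub, cls_zero_iff_zero, sub_eq_zero] at hz
    exact ⟨z, hz⟩
  · rintro ⟨z, rfl⟩
    have : cls (Zsys P) 0 (ΓMap (qE P) z) ∈ LinearMap.ker ((sesP P).conn 0) :=
      ((sesP P).ker_conn 0).symm ▸ ⟨cls _ 0 z, rfl⟩
    exact this

theorem ker_connD (m : ℕ) : LinearMap.ker ((sesD Q P hQ).conn m) =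
    (LinearMap.ker (LinearMap.lTensor (Hc Q m) ((sesP P).conn 0 ∘ₗ cls (Zsys P) 0))).map
      (Psi Q (Zsys P) m) := by
  rw [(sesD Q P hQ).ker_conn,
    LinearMap.exact_iff.mp (lTensor_exact (Hc Q m) (delta_exact P) (delta_surjective P))]
  ext y
  constructor
  · rintro ⟨z, rfl⟩
    obtain ⟨t, rfl⟩ := (Psi_E_bijective Q P hQ hcok m).2 z
    exact ⟨_, ⟨t, rfl⟩, (Psi_natural Q (qE P) m t).symm⟩
  · rintro ⟨_, ⟨t, rfl⟩, rfl⟩
    exact ⟨_, Psi_natural Q (qE P) m t⟩

omit hQ hcok hH in
theorem conn_bijective (q : ℕ) : Function.Bijective ((sesP P).conn (q + 1)) :=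
  ⟨by
    rw [← LinearMap.ker_eq_bot, (sesP P).ker_conn, LinearMap.range_eq_bot]
    exact LinearMap.ext fun z => by rw [Hc_E_eq_zero P q z, map_zero]; rfl,
  fun x => by
    have hx : x ∈ LinearMap.range ((sesP P).conn (q + 1)) := by
      rw [(sesP P).range_conn]; exact Hc_E_eq_zero P (q + 1) _
    exact hx⟩

omit hQ hcok hH in
theorem nonempty_rest_cons (m : ℕ) :
    Nonempty (((Hc Q m ⊗[A] Hc P 1) × Rest Q m (Zsys P)) ≃ₗ[A] Rest Q (m + 1) P) := by
  let M : Fin (m + 1) → Type u := fun q => Hc Q (co (m + 1) q) ⊗[A] Hc P ((q : ℕ) + 1)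
  exact ⟨piFinSuccEquiv (A := A) (M := M) (N := fun q' : Fin m => Hc Q (co m q') ⊗[A] Hc (Zsys P) ((q' : ℕ) + 1)) (LinearEquiv.refl A (Hc Q m ⊗[A] Hc P 1))
    fun q' => LinearEquiv.lTensor (Hc Q (co m q'))
      (LinearEquiv.ofBijective ((sesP P).conn ((q' : ℕ) + 1)) (conn_bijective P (q' : ℕ)))⟩

theorem dec_succ (m : ℕ) (ih : Dec Q m (Zsys P)) : Dec Q (m + 1) P := by
  refine ⟨_, isCompl_ker Q P hQ hcok hH (m + 1), ?_⟩
  obtain ⟨W', hW', ⟨e'⟩⟩ := ih
  obtain ⟨e⟩ := nonempty_quot_equiv (Psi Q (Zsys P) m) (Psi_injective Q (Zsys P) hQ hcok hH m) W' hW'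
    (LinearMap.lTensor (Hc Q m) ((sesP P).conn 0 ∘ₗ cls (Zsys P) 0))
    (LinearMap.lTensor_surjective _ (delta_surjective P)) _ (ker_connD Q P hQ hcok hH m)
  obtain ⟨c⟩ := nonempty_rest_cons Q P m
  exact ⟨(LinearEquiv.ofEq _ _ ((sesD Q P hQ).range_conn m).symm).trans
    (((sesD Q P hQ).conn m).quotKerEquivRange.symm.trans
      (e.trans ((LinearEquiv.prodCongr (LinearEquiv.refl A _) e').trans c)))⟩

theorem dec : ∀ (n : ℕ) (P : Sys A κ), Dec Q n P
  | 0, P => dec_zero Q P hQ hcok hH
  | n + 1, P => dec_succ Q P hQ hcok hH n (dec n (Zsys P))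

/-- **The Künneth decomposition.** -/
theorem nonempty_kunneth (n : ℕ) :
    Nonempty (Hc (D Q P) n ≃ₗ[A] DirectSum (Finset.HasAntidiagonal.antidiagonal n) fun pq => Hc Q pq.1.1 ⊗[A] Hc P pq.1.2) := by
  classical
  obtain ⟨W, hW, ⟨e⟩⟩ := dec Q hQ hcok hH n P
  let z0 : Zc P 0 ≃ₗ[A] Hc P 0 := LinearEquiv.ofBijective (cls P 0)
    ⟨(injective_iff_map_eq_zero _).mpr fun x => (cls_zero_iff_zero P x).mp, cls_surjective P 0⟩
  let M : Finset.HasAntidiagonal.antidiagonal n → Type u := fun pq => Hc Q pq.1.1 ⊗[A] Hc P pq.1.2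
  have h0 : ((n, 0) : ℕ × ℕ) ∈ Finset.HasAntidiagonal.antidiagonal n := by simp
  have hq : ∀ q : Fin n, ((co n q, (q : ℕ) + 1) : ℕ × ℕ) ∈ Finset.HasAntidiagonal.antidiagonal n := fun q => by
    rw [Finset.HasAntidiagonal.mem_antidiagonal, co_eq]; omega
  let r : (∀ pq, M pq) →ₗ[A] (Hc Q n ⊗[A] Hc P 0) × Rest Q n P :=
    (LinearMap.proj (⟨(n, 0), h0⟩ : Finset.HasAntidiagonal.antidiagonal n)).prod
      (LinearMap.pi fun q : Fin n => LinearMap.proj (⟨(co n q, (q : ℕ) + 1), hq q⟩ : Finset.HasAntidiagonal.antidiagonal n))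
  have hr : Function.Bijective r := by
    constructor
    · intro f g hfg
      funext pq
      obtain ⟨⟨p, q⟩, hpq⟩ := pq
      have hpq' : p + q = n := Finset.HasAntidiagonal.mem_antidiagonal.mp hpq
      cases q with
      | zero =>
        obtain rfl : p = n := hpq'
        exact congrArg Prod.fst hfg
      | succ q =>
        have hqn : q < n := by omega
        obtain rfl : p = co n ⟨q, hqn⟩ := by rw [co_eq]; simp only; omega
        exact congrFun (congrArg Prod.snd hfg) ⟨q, hqn⟩
    · rintro ⟨x, y⟩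
      refine ⟨fun pq => match pq with
        | ⟨(p, 0), h⟩ => _root_.cast (congrArg (fun i => Hc Q i ⊗[A] Hc P 0)
            (show n = p by simp at h; omega)) x
        | ⟨(p, q + 1), h⟩ =>
          have hqn : q < n := by have := Finset.HasAntidiagonal.mem_antidiagonal.mp h; omega
          _root_.cast (congrArg (fun i => Hc Q i ⊗[A] Hc P (q + 1))
            (show co n ⟨q, hqn⟩ = p by
              rw [co_eq]; have := Finset.HasAntidiagonal.mem_antidiagonal.mp h; simp only at this ⊢; omega))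
            (y ⟨q, hqn⟩), ?_⟩
      refine Prod.ext rfl (funext fun q => ?_)
      rfl
  exact ⟨(Submodule.prodEquivOfIsCompl _ _ hW).symm.trans
    ((LinearEquiv.prodCongr ((LinearEquiv.ofInjective _ (Psi_injective Q P hQ hcok hH n)).symm.trans
      (TensorProduct.congr (LinearEquiv.refl A _) z0)) e).trans
      ((LinearEquiv.ofBijective r hr).symm.trans
        (DirectSum.linearEquivFunOnFintype A (Finset.HasAntidiagonal.antidiagonal n) M).symm))⟩

end KunnethDiagLib
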