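import Groth.Agent.KunnethDiagLib.Cx

/-! Two refinement maps induce the same map in cohomology. -/

set_option autoImplicit false

universe u

open CategoryTheory CategoryTheory.Limits

namespace KunnethDiagLib

/-- The alternating sum identity behind the prism operator. -/
theorem prism_sum {M : Type*} [AddCommGroup M] (n : ℕ) (u : Fin (n + 3) → Fin (n + 2) → M)
    (v : Fin (n + 2) → Fin (n + 1) → M)
    (h1 : ∀ (i : Fin (n + 2)) (t : Fin (n + 1)), i ≤ t.castSucc → u i.castSucc t.succ = v i t)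
    (h2 : ∀ t : Fin (n + 1), u t.castSucc.succ t.succ = u t.castSucc.succ t.castSucc)
    (h3 : ∀ (i : Fin (n + 2)) (t : Fin (n + 1)), t.castSucc < i → u i.succ t.castSucc = v i t) :
    ∑ x : Fin (n + 3) × Fin (n + 2), ((-1 : ℤ) ^ ((x.1 : ℕ) + x.2)) • u x.1 x.2 +
      ∑ x : Fin (n + 2) × Fin (n + 1), ((-1 : ℤ) ^ ((x.1 : ℕ) + x.2)) • v x.1 x.2 =
      u 0 0 - u (Fin.last _) (Fin.last _) := by
  let β (x : Fin (n + 3) × Fin (n + 2)) := ((-1 : ℤ) ^ ((x.1 : ℕ) + x.2)) • u x.1 x.2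
  let α (x : Fin (n + 2) × Fin (n + 1)) := ((-1 : ℤ) ^ ((x.1 : ℕ) + x.2)) • v x.1 x.2
  let S : Finset (Fin (n + 2) × Fin (n + 1)) := { x | x.2.castSucc < x.1 }
  let γ₁ (x : Fin (n + 2) × Fin (n + 1)) := (x.1.castSucc, x.2.succ)
  let γ₂ (x : Fin (n + 2) × Fin (n + 1)) := (x.1.succ, x.2.castSucc)
  let γ₃ (i : Fin (n + 1)) := (i.castSucc.succ, i.succ)
  let γ₄ (i : Fin (n + 1)) := (i.castSucc.succ, i.castSucc)
  have hγ₁ : Function.Injective γ₁ := fun _ _ ↦ by aesop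
  have hγ₂ : Function.Injective γ₂ := fun _ _ ↦ by aesop
  have hγ₃ : Function.Injective γ₃ := fun _ _ ↦ by aesop
  have hγ₄ : Function.Injective γ₄ := fun _ _ ↦ by aesop
  have eq₃ : ∑ x ∈ Sᶜ, α x = - ∑ y ∈ Finset.image γ₁ Sᶜ, β y := by
    rw [← Finset.sum_neg_distrib, Finset.sum_image hγ₁.injOn]
    refine Finset.sum_congr rfl (fun x hx ↦ ?_)
    have e := h1 x.1 x.2 (by simpa [S] using hx)
    simp only [α, β, γ₁, e, Fin.val_castSucc, Fin.val_succ]
    rw [← add_assoc, pow_succ, mul_neg, mul_one, neg_smul, neg_neg]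
  have eq₄ : ∑ x ∈ S, α x = - ∑ y ∈ Finset.image γ₂ S, β y := by
    rw [← Finset.sum_neg_distrib, Finset.sum_image hγ₂.injOn]
    refine Finset.sum_congr rfl (fun x hx ↦ ?_)
    have e := h3 x.1 x.2 (by simpa [S] using hx)
    simp only [α, β, γ₂, e, Fin.val_castSucc, Fin.val_succ]
    rw [add_right_comm, pow_succ, mul_neg, mul_one, neg_smul, neg_neg]
  have eq₅ : ∑ x, β (γ₄ x) = - ∑ x, β (γ₃ x) := by
    rw [← Finset.sum_neg_distrib]
    refine Finset.sum_congr rfl (fun x _ ↦ ?_)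
    simp only [β, γ₃, γ₄, h2 x, Fin.val_castSucc, Fin.val_succ]
    rw [← add_assoc _ (x : ℕ) 1, pow_succ, mul_neg, mul_one, neg_smul, neg_neg]
  have h₁ : Disjoint (Finset.image γ₁ Sᶜ) (Finset.image γ₂ S) := by
    rw [Finset.disjoint_iff_ne]
    simp only [Finset.mem_image, Finset.mem_compl, S, γ₁, γ₂, Finset.mem_filter, Finset.mem_univ,
      true_and, Prod.exists, ne_eq]
    rintro _ ⟨i, t, h, rfl⟩ _ ⟨i', t', h', rfl⟩ e
    simp only [Prod.mk.injEq, Fin.ext_iff, Fin.lt_def, Fin.val_castSucc, Fin.val_succ, not_lt] at *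
    omega
  have h₂ : Disjoint (Finset.image γ₃ .univ) (Finset.image γ₄ .univ) := by
    rw [Finset.disjoint_iff_ne]
    simp only [Finset.mem_image, γ₃, γ₄, Finset.mem_univ, true_and, ne_eq]
    rintro _ ⟨t, rfl⟩ _ ⟨t', rfl⟩ e
    simp only [Prod.mk.injEq, Fin.ext_iff, Fin.val_castSucc, Fin.val_succ] at *
    omega
  have h₃ : Disjoint (Finset.disjUnion _ _ h₂) {((0 : Fin (n + 3)), (0 : Fin (n + 2))), (Fin.last _, Fin.last _)} := by
    rw [Finset.disjoint_iff_ne]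
    simp only [Finset.disjUnion_eq_union, Finset.mem_union, Finset.mem_image, γ₃, γ₄, Finset.mem_univ, true_and,
      Finset.mem_insert, Finset.mem_singleton, ne_eq]
    rintro _ (⟨t, rfl⟩ | ⟨t, rfl⟩) _ (rfl | rfl) e <;>
      simp only [Prod.mk.injEq, Fin.ext_iff, Fin.val_castSucc, Fin.val_succ, Fin.val_last, Fin.val_zero] at e <;>
      omega
  have h₄ : Disjoint (Finset.disjUnion _ _ h₁) (Finset.disjUnion _ _ h₃) := by
    rw [Finset.disjoint_iff_ne]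
    simp only [Finset.disjUnion_eq_union, Finset.mem_union, Finset.mem_image, Finset.mem_compl, S, γ₁, γ₂, γ₃, γ₄,
      Finset.mem_filter, Finset.mem_univ, true_and, Prod.exists, Finset.mem_insert, Finset.mem_singleton, ne_eq]
    rintro _ (⟨i, t, h, rfl⟩ | ⟨i, t, h, rfl⟩) _ ((⟨s, rfl⟩ | ⟨s, rfl⟩) | (rfl | rfl)) e <;>
      simp only [Prod.mk.injEq, Fin.ext_iff, Fin.lt_def, Fin.val_castSucc, Fin.val_succ, Fin.val_last, Fin.val_zero,
        not_lt] at e h <;>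
      omega
  have H : (Finset.disjUnion _ _ h₁)ᶜ = Finset.disjUnion _ _ h₃ :=
    Finset.compl_eq_of_disjoint_of_card_add_eq h₄ (by
      rw [Finset.card_disjUnion, Finset.card_disjUnion, Finset.card_disjUnion,
        Finset.card_image_of_injective _ hγ₁, Finset.card_image_of_injective _ hγ₂,
        Finset.card_image_of_injective _ hγ₃, Finset.card_image_of_injective _ hγ₄, Finset.card_compl_add_card]
      simp
      lia)
  show ∑ x, β x + ∑ x, α x = _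
  rw [← S.sum_add_sum_compl α, eq₃, eq₄, ← neg_add, add_comm (∑ y ∈ Finset.image γ₂ S, β y),
    ← Finset.sum_disjUnion h₁, ← (Finset.disjUnion _ _ h₁).sum_add_sum_compl β, add_assoc, add_comm _ (-_),
    ← add_assoc, add_neg_cancel, zero_add, H, Finset.sum_disjUnion, Finset.sum_disjUnion,
    Finset.sum_image hγ₃.injOn, Finset.sum_image hγ₄.injOn, eq₅, add_neg_cancel, zero_add,
    Finset.sum_insert (by simp), Finset.sum_singleton]
  simp only [β, Fin.val_zero, Fin.val_last, add_zero, pow_zero, one_smul]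
  rw [show n + 2 + (n + 1) = 2 * (n + 1) + 1 by omega, pow_succ, pow_mul, neg_one_sq, one_pow, one_mul, neg_smul,
    one_smul, sub_eq_add_neg]

variable {A : Type u} [CommRing A] {τ τ' : Type u} [DecidableEq τ] [DecidableEq τ'] (φ₀ φ₁ : τ → τ')

/-- The subsets spanned by the two images. -/
def hull : Finset τ ⥤ Finset τ' :=
  Monotone.functor (f := fun S => S.image φ₀ ∪ S.image φ₁)
    fun _ _ h => Finset.union_subset_union (Finset.image_subset_image h) (Finset.image_subset_image h)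

theorem img_le_hull {n m : ℕ} {a : Fin n → τ} {b : Fin m → τ'}
    (h : ∀ j, ∃ i, b j = φ₀ (a i) ∨ b j = φ₁ (a i)) : img b ⊆ (hull φ₀ φ₁).obj (img a) := by
  intro y hy
  obtain ⟨j, -, rfl⟩ := Finset.mem_image.mp hy
  obtain ⟨i, e | e⟩ := h j
  · exact Finset.mem_union_left _ (e ▸ Finset.mem_image_of_mem _ (Finset.mem_image_of_mem _ (Finset.mem_univ i)))
  · exact Finset.mem_union_right _ (e ▸ Finset.mem_image_of_mem _ (Finset.mem_image_of_mem _ (Finset.mem_univ i)))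

/-- The `t`-th simplex of the prism. -/
def spl {n : ℕ} (t : Fin (n + 1)) (a : Fin (n + 1) → τ) : Fin (n + 2) → τ' := fun j =>
  if h : (j : ℕ) ≤ t then φ₀ (a ⟨j, lt_of_le_of_lt h t.2⟩) else φ₁ (a ⟨(j : ℕ) - 1, by omega⟩)

theorem img_spl_le {n : ℕ} (t : Fin (n + 1)) (a : Fin (n + 1) → τ) :
    img (spl φ₀ φ₁ t a) ⊆ (hull φ₀ φ₁).obj (img a) :=
  img_le_hull φ₀ φ₁ fun j => by
    by_cases h : (j : ℕ) ≤ t
    · exact ⟨_, Or.inl (by rw [spl, dif_pos h])⟩
    · exact ⟨_, Or.inr (by rw [spl, dif_neg h])⟩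

theorem spl_zero_face {n : ℕ} (a : Fin (n + 1) → τ) : spl φ₀ φ₁ 0 a ∘ (0 : Fin (n + 2)).succAbove = φ₁ ∘ a := by
  funext j
  simp [spl]

theorem spl_last_face {n : ℕ} (a : Fin (n + 1) → τ) :
    spl φ₀ φ₁ (Fin.last n) a ∘ (Fin.last (n + 1)).succAbove = φ₀ ∘ a := by
  funext j
  simp only [Function.comp_apply, Fin.succAbove_last, spl, Fin.val_castSucc, Fin.val_last]
  rw [dif_pos (by omega)]

omit [DecidableEq τ] [DecidableEq τ'] in
theorem spl_eq {n : ℕ} (t : Fin (n + 1)) (a : Fin (n + 1) → τ) (j : Fin (n + 2)) (k : Fin (n + 1)) (y : τ')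
    (h0 : (j : ℕ) ≤ t → (k : ℕ) = j ∧ y = φ₀ (a k)) (h1 : (t : ℕ) < j → (k : ℕ) + 1 = j ∧ y = φ₁ (a k)) :
    spl φ₀ φ₁ t a j = y := by
  unfold spl
  split_ifs with h
  · obtain ⟨e, rfl⟩ := h0 h
    congr 2
    exact Fin.ext e.symm
  · obtain ⟨e, rfl⟩ := h1 (by omega)
    congr 2
    exact Fin.ext (show (j : ℕ) - 1 = k by omega)

omit [DecidableEq τ] [DecidableEq τ'] in
theorem sval {m : ℕ} (i : Fin (m + 1)) (j : Fin m) :
    ((i.succAbove j : Fin (m + 1)) : ℕ) = if (j : ℕ) < i then (j : ℕ) else j + 1 := by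
  rw [Fin.succAbove]
  split_ifs with h h' h' <;> simp only [Fin.lt_def, Fin.val_castSucc, Fin.val_succ] at * <;> omega

theorem spl_face_lt {n : ℕ} (a : Fin (n + 2) → τ) (i : Fin (n + 2)) (t : Fin (n + 1)) (h : i ≤ t.castSucc) :
    spl φ₀ φ₁ t.succ a ∘ i.castSucc.succAbove = spl φ₀ φ₁ t (a ∘ i.succAbove) := by
  funext j
  simp only [Fin.le_def, Fin.val_castSucc] at h
  show spl φ₀ φ₁ _ a _ = spl φ₀ φ₁ t (a ∘ i.succAbove) j
  by_cases hj : (j : ℕ) ≤ t
  · refine spl_eq φ₀ φ₁ _ a _ (i.succAbove ⟨j, by omega⟩) _ (fun h0 => ⟨?_, ?_⟩) (fun h1 => ?_)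
    · simp only [sval, Fin.val_castSucc, Fin.val_succ] at *
      all_goals (split_ifs at * <;> omega)
    · rw [spl, dif_pos hj]; rfl
    · simp only [sval, Fin.val_castSucc, Fin.val_succ] at *
      split_ifs at * <;> omega
  · refine spl_eq φ₀ φ₁ _ a _ (i.succAbove ⟨(j : ℕ) - 1, by omega⟩) _ (fun h0 => ?_) (fun h1 => ⟨?_, ?_⟩)
    · simp only [sval, Fin.val_castSucc, Fin.val_succ] at *
      split_ifs at * <;> omega
    · simp only [sval, Fin.val_castSucc, Fin.val_succ] at *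
      split_ifs at * <;> omega
    · rw [spl, dif_neg hj]; rfl

theorem spl_face_eq {n : ℕ} (a : Fin (n + 2) → τ) (t : Fin (n + 1)) :
    spl φ₀ φ₁ t.succ a ∘ t.castSucc.succ.succAbove = spl φ₀ φ₁ t.castSucc a ∘ t.castSucc.succ.succAbove := by
  funext j
  show spl φ₀ φ₁ _ a _ = spl φ₀ φ₁ _ a _
  have hne : ((t.castSucc.succ.succAbove j : Fin (n + 3)) : ℕ) ≠ t + 1 := by
    simp only [sval, Fin.val_castSucc, Fin.val_succ]
    split_ifs <;> omega
  simp only [spl, Fin.val_castSucc, Fin.val_succ]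
  split_ifs <;> first | rfl | omega

theorem spl_face_gt {n : ℕ} (a : Fin (n + 2) → τ) (i : Fin (n + 2)) (t : Fin (n + 1)) (h : t.castSucc < i) :
    spl φ₀ φ₁ t.castSucc a ∘ i.succ.succAbove = spl φ₀ φ₁ t (a ∘ i.succAbove) := by
  funext j
  simp only [Fin.lt_def, Fin.val_castSucc] at h
  show spl φ₀ φ₁ _ a _ = spl φ₀ φ₁ t (a ∘ i.succAbove) j
  by_cases hj : (j : ℕ) ≤ t
  · refine spl_eq φ₀ φ₁ _ a _ (i.succAbove ⟨j, by omega⟩) _ (fun h0 => ⟨?_, ?_⟩) (fun h1 => ?_)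
    · simp only [sval, Fin.val_castSucc, Fin.val_succ] at *
      split_ifs at * <;> omega
    · rw [spl, dif_pos hj]; rfl
    · simp only [sval, Fin.val_castSucc, Fin.val_succ] at *
      split_ifs at * <;> omega
  · refine spl_eq φ₀ φ₁ _ a _ (i.succAbove ⟨(j : ℕ) - 1, by omega⟩) _ (fun h0 => ?_) (fun h1 => ⟨?_, ?_⟩)
    · simp only [sval, Fin.val_castSucc, Fin.val_succ] at *
      split_ifs at * <;> omega
    · simp only [sval, Fin.val_castSucc, Fin.val_succ] at *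
      split_ifs at * <;> omega
    · rw [spl, dif_neg hj]; rfl

variable {R : Sys A τ} {R' : Sys A τ'} (θ : hull φ₀ φ₁ ⋙ R' ⟶ R)

/-- Pullback of cochains along `φ₀` or `φ₁`. -/
noncomputable def pull (φ : τ → τ') (hφ : ∀ x, φ x = φ₀ x ∨ φ x = φ₁ x) (n : ℕ) (x : Coch R' n) : Coch R n := fun a =>
  (θ.app (img a)).hom (val R' _ (φ ∘ a) (img_le_hull φ₀ φ₁ fun j => ⟨j, hφ (a j)⟩) x)

/-- The prism operator. -/
noncomputable def hop (n : ℕ) (x : Coch R' (n + 1)) : Coch R n := fun a =>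
  ∑ t : Fin (n + 1), ((-1 : ℤ) ^ (t : ℕ)) • (θ.app (img a)).hom (val R' _ (spl φ₀ φ₁ t a) (img_spl_le φ₀ φ₁ t a) x)

theorem θ_val {n : ℕ} {S T : Finset τ} (h : S ⊆ T) (b : Fin (n + 1) → τ') (hb : img b ⊆ (hull φ₀ φ₁).obj S)
    (x : Coch R' n) :
    (R.map (homOfLE h)).hom ((θ.app S).hom (val R' ((hull φ₀ φ₁).obj S) b hb x)) =
      (θ.app T).hom (val R' ((hull φ₀ φ₁).obj T) b (hb.trans (((hull φ₀ φ₁).map (homOfLE h)).le)) x) := by
  refine (congr($(θ.naturality (homOfLE h)) (val R' ((hull φ₀ φ₁).obj S) b hb x))).symm.trans ?_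
  exact congrArg (θ.app T).hom (map_val R' b hb _ _ x)

theorem pull_eq_zero_deg (x : Coch R' 0) (hx : dd R' 0 x = 0) :
    pull φ₀ φ₁ θ φ₁ (fun _ => Or.inr rfl) 0 x = pull φ₀ φ₁ θ φ₀ (fun _ => Or.inl rfl) 0 x := by
  funext a
  refine congrArg (θ.app (img a)).hom (sub_eq_zero.mp ?_)
  have h := congrArg (val R' _ (spl φ₀ φ₁ 0 a) (img_spl_le φ₀ φ₁ 0 a)) hx
  rw [map_zero] at h
  refine Eq.trans ?_ h
  have e := val_d R' 0 x (spl φ₀ φ₁ 0 a) (img_spl_le φ₀ φ₁ 0 a)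
  rw [cx_d_eq] at e
  refine Eq.trans ?_ e.symm
  rw [Fin.sum_univ_two, sub_eq_add_neg]
  refine congrArg₂ (· + ·) ?_ ?_
  · simp only [Fin.val_zero, pow_zero, one_smul]
    exact val_congr R' (spl_zero_face φ₀ φ₁ a).symm _ _ x
  · simp only [Fin.val_one, pow_one, neg_smul, one_smul]
    exact congrArg Neg.neg (val_congr R' (spl_last_face φ₀ φ₁ a).symm _ _ x)

theorem pull_sub_eq (n : ℕ) (x : Coch R' (n + 1)) (hx : dd R' (n + 1) x = 0) :
    pull φ₀ φ₁ θ φ₁ (fun _ => Or.inr rfl) (n + 1) x - pull φ₀ φ₁ θ φ₀ (fun _ => Or.inl rfl) (n + 1) x =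
      dd R n (hop φ₀ φ₁ θ n x) := by
  classical
  funext a
  let T := (hull φ₀ φ₁).obj (img a)
  let L : Coch R' (n + 1) →ₗ[A] Coch R' (n + 1) := LinearMap.id
  have hu : ∀ (i : Fin (n + 3)) (t : Fin (n + 2)), img (spl φ₀ φ₁ t a ∘ i.succAbove) ⊆ T :=
    fun i t => (img_comp_le _ _).trans (img_spl_le φ₀ φ₁ t a)
  have hv : ∀ (i : Fin (n + 2)) (t : Fin (n + 1)), img (spl φ₀ φ₁ t (a ∘ i.succAbove)) ⊆ T :=
    fun i t => (img_spl_le φ₀ φ₁ t _).trans ((hull φ₀ φ₁).map (homOfLE (img_comp_le a i.succAbove))).le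
  let u : Fin (n + 3) → Fin (n + 2) → (R.obj (img a) : Type u) := fun i t =>
    (θ.app (img a)).hom (val R' T (spl φ₀ φ₁ t a ∘ i.succAbove) (hu i t) x)
  let v : Fin (n + 2) → Fin (n + 1) → (R.obj (img a) : Type u) := fun i t =>
    (θ.app (img a)).hom (val R' T (spl φ₀ φ₁ t (a ∘ i.succAbove)) (hv i t) x)
  have key := prism_sum n u v
    (fun i t h => congrArg (θ.app (img a)).hom (val_congr R' (spl_face_lt φ₀ φ₁ a i t h) _ _ x))
    (fun t => congrArg (θ.app (img a)).hom (val_congr R' (spl_face_eq φ₀ φ₁ a t) _ _ x))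
    (fun i t h => congrArg (θ.app (img a)).hom (val_congr R' (spl_face_gt φ₀ φ₁ a i t h) _ _ x))
  have hz : ∑ y : Fin (n + 3) × Fin (n + 2), ((-1 : ℤ) ^ ((y.1 : ℕ) + y.2)) • u y.1 y.2 = 0 := by
    rw [Fintype.sum_prod_type, Finset.sum_comm]
    refine Finset.sum_eq_zero fun t _ => ?_
    have h := congrArg (fun z => ((-1 : ℤ) ^ (t : ℕ)) • (θ.app (img a)).hom
      (val R' T (spl φ₀ φ₁ t a) (img_spl_le φ₀ φ₁ t a) z)) hx
    simp only [map_zero, smul_zero] at h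
    refine Eq.trans ?_ h
    have e := val_d R' (n + 1) x (spl φ₀ φ₁ t a) (img_spl_le φ₀ φ₁ t a)
    rw [cx_d_eq] at e
    refine Eq.trans ?_ (congrArg (fun z => ((-1 : ℤ) ^ (t : ℕ)) • (θ.app (img a)).hom z) e).symm
    rw [map_sum, Finset.smul_sum]
    refine Finset.sum_congr rfl fun i _ => ?_
    rw [map_zsmul, smul_smul, ← pow_add, add_comm (i : ℕ) t]
  rw [hz, zero_add] at key
  refine Eq.trans ?_ (Eq.trans key.symm ?_)
  · refine congrArg₂ (fun p q : (R.obj (img a) : Type u) => p - q) ?_ ?_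
    · exact congrArg (θ.app (img a)).hom (val_congr R' (spl_zero_face φ₀ φ₁ a).symm _ _ x)
    · exact congrArg (θ.app (img a)).hom (val_congr R' (spl_last_face φ₀ φ₁ a).symm _ _ x)
  · rw [dd_apply, Fintype.sum_prod_type]
    refine Finset.sum_congr rfl fun i _ => ?_
    show _ = ((-1 : ℤ) ^ (i : ℕ)) • (R.map (homOfLE (img_comp_le a i.succAbove))).hom
      (∑ t : Fin (n + 1), ((-1 : ℤ) ^ (t : ℕ)) • (θ.app (img (a ∘ i.succAbove))).hom
        (val R' _ (spl φ₀ φ₁ t (a ∘ i.succAbove)) (img_spl_le φ₀ φ₁ t _) x))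
    rw [map_sum, Finset.smul_sum]
    refine Finset.sum_congr rfl fun t _ => ?_
    rw [map_zsmul, smul_smul, ← pow_add]
    exact congrArg _ (θ_val φ₀ φ₁ θ (img_comp_le a i.succAbove) _ _ x).symm

end KunnethDiagLib
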